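import Cfsg.Agent.S4201
import Cfsg.Agent.S4200
import Cfsg.Agent.S0044
import Cfsg.Agent.H83.ClassCount
import Cfsg.Agent.H44.Cores

/-! Project KR (S4265, S4990): definitions and the class-number calculus. See notes/KR.md. -/

set_option autoImplicit false

open Subgroup

namespace Cfsg.Agent.KR

universe u

/-- every subgroup of `X` has at most `c` conjugacy classes -/
def Small (c : ℕ) (X : Type*) [Group X] : Prop :=
  ∀ H : Subgroup X, Nat.card (ConjClasses H) ≤ c

/-- the statement for faithful complex representations of degree `r` -/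
def Core (r : ℕ) : Prop :=
  ∀ (G : Type u) [Group G] [Finite G] (V : Type) [AddCommGroup V] [Module ℂ V]
    [FiniteDimensional ℂ V] (ρ : Representation ℂ G V), Group.IsSolvable G →
    Function.Injective ρ → Module.finrank ℂ V = r → Small (3 ^ (r - 1)) (G ⧸ fittingSubgroup G)

/-- a solvable group acting faithfully and irreducibly on a symplectic space over `ZMod p` -/
structure Sym (p : ℕ) (Γ W : Type*) [Group Γ] [AddCommGroup W] [DistribMulAction Γ W]
    (β : W →+ W →+ ZMod p) : Prop where
  prime : p.Prime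
  solv : Group.IsSolvable Γ
  faith : ∀ g : Γ, (∀ w : W, g • w = w) → g = 1
  irr : ∀ U : AddSubgroup W, (∀ g : Γ, ∀ w ∈ U, g • w ∈ U) → U = ⊥ ∨ U = ⊤
  exp : ∀ w : W, p • w = 0
  inv : ∀ (g : Γ) (v w : W), β (g • v) (g • w) = β v w
  nd : ∀ v : W, (∀ w, β v w = 0) → v = 0
  alt : ∀ v : W, β v v = 0

/-- `v` is a real vector, with an invariant nondegenerate form on the whole module -/
def RealVec (p : ℕ) (F V : Type*) [Group F] [AddCommGroup V] [DistribMulAction F V] : Prop :=
  ∃ (v : V) (β : V →+ V →+ ZMod p), (∀ x : V, (∀ y, β x y = 0) → x = 0) ∧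
    ∀ g : F, g • v = v → ∀ x y : V, β (g • x) (g • y) = β x y

section k

variable {X : Type*} [Group X] [Finite X] {Y : Type*} [Group Y]

theorem k_le_card : Nat.card (ConjClasses X) ≤ Nat.card X :=
  Nat.card_le_card_of_surjective _ ConjClasses.mk_surjective

theorem k_le_of_surjective (f : X →* Y) (hf : Function.Surjective f) :
    Nat.card (ConjClasses Y) ≤ Nat.card (ConjClasses X) :=
  Nat.card_le_card_of_surjective _ (ConjClasses.map_surjective hf)

theorem k_eq_of_equiv (e : X ≃* Y) : Nat.card (ConjClasses X) = Nat.card (ConjClasses Y) := by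
  have := Finite.of_equiv _ e.toEquiv
  exact le_antisymm (k_le_of_surjective e.symm.toMonoidHom e.symm.surjective)
    (k_le_of_surjective e.toMonoidHom e.surjective)

/-- `k(X) ≤ k(ker f) k(range f)` -/
theorem k_le_ker_mul_range (f : X →* Y) :
    Nat.card (ConjClasses X) ≤ Nat.card (ConjClasses f.ker) * Nat.card (ConjClasses f.range) := by
  rw [← k_eq_of_equiv (QuotientGroup.quotientKerEquivRange f)]
  exact S4201.result f.ker

/-- few elements (`≤ a`, among them `1`) are exceptional, all others have small centralisers -/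
theorem k_add_one_le (Z : Set X) (h1 : (1 : X) ∈ Z) {a b : ℕ} (ha : Nat.card Z ≤ a)
    (hb : ∀ x ∉ Z, Nat.card (centralizer ({x} : Set X)) ≤ b) (hb0 : 0 < b) :
    Nat.card (ConjClasses X) + 1 ≤ a + b := by
  classical
  have := Fintype.ofFinite X
  have h0 := H83.card_conjClasses_mul (G := X)
  have hpos : 0 < Nat.card X := Nat.card_pos
  rw [← Finset.sum_filter_add_sum_filter_not Finset.univ (· ∈ Z)] at h0
  have hZ : (Finset.univ.filter (· ∈ Z)).card = Nat.card Z := by
    rw [Nat.card_eq_fintype_card, Fintype.card_subtype]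
  have hA : ∑ x ∈ Finset.univ.filter (· ∈ Z), Nat.card (centralizer ({x} : Set X)) ≤
      a * Nat.card X := by
    refine (Finset.sum_le_card_nsmul _ _ (Nat.card X) fun x _ => card_le_card_group _).trans ?_
    rw [hZ, smul_eq_mul]
    exact Nat.mul_le_mul_right _ ha
  have hc : (Finset.univ.filter (· ∉ Z)).card < Nat.card X := by
    rw [Nat.card_eq_fintype_card, ← Finset.card_univ]
    exact Finset.card_lt_card ⟨Finset.subset_univ _, fun h => by
      simpa [h1] using h (Finset.mem_univ 1)⟩
  have hB : ∑ x ∈ Finset.univ.filter (· ∉ Z), Nat.card (centralizer ({x} : Set X)) <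
      b * Nat.card X := by
    refine (Finset.sum_le_card_nsmul _ _ b fun x hx => hb x (by simpa using hx)).trans_lt ?_
    rw [smul_eq_mul, mul_comm]
    exact Nat.mul_lt_mul_of_pos_left hc hb0
  have : Nat.card (ConjClasses X) * Nat.card X < (a + b) * Nat.card X := by
    rw [h0, add_mul]; omega
  exact Nat.lt_of_mul_lt_mul_right this

/-- `2 k(X) ≤ |X| + |Z(X)|` -/
theorem two_k_le : 2 * Nat.card (ConjClasses X) ≤ Nat.card X + Nat.card (center X) := by
  classical
  have := Fintype.ofFinite X
  have h0 := H83.card_conjClasses_mul (G := X)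
  have hpos : 0 < Nat.card X := Nat.card_pos
  have hZ : (Finset.univ.filter (· ∈ center X)).card = Nat.card (center X) := by
    rw [Nat.card_eq_fintype_card, Fintype.card_subtype]
  have key : ∀ x : X, 2 * Nat.card (centralizer ({x} : Set X)) ≤
      Nat.card X + if x ∈ center X then Nat.card X else 0 := fun x => by
    split_ifs with hx
    · have := card_le_card_group (centralizer ({x} : Set X)); omega
    · have h1 := (centralizer ({x} : Set X)).card_mul_index
      have h2 : (centralizer ({x} : Set X)).index ≠ 1 := fun h => hx (by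
        rw [index_eq_one] at h
        exact mem_center_iff.2 fun g =>
          mem_centralizer_singleton_iff.1 (h ▸ mem_top g : g ∈ centralizer ({x} : Set X)))
      have h3 : (centralizer ({x} : Set X)).index ≠ 0 := index_ne_zero_of_finite
      have h4 : 2 ≤ (centralizer ({x} : Set X)).index := by omega
      nlinarith
  have h5 := Finset.sum_le_sum fun x (_ : x ∈ (Finset.univ : Finset X)) => key x
  rw [← Finset.mul_sum, ← h0, Finset.sum_add_distrib, ← Finset.sum_filter, Finset.sum_const,
    Finset.sum_const, hZ, Finset.card_univ, ← Nat.card_eq_fintype_card, smul_eq_mul,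
    smul_eq_mul, ← add_mul, ← mul_assoc] at h5
  exact Nat.le_of_mul_le_mul_right h5 hpos

/-- `N` normal, elements outside `N` centralise at most `b` elements of `N`:
`k(X) + b ≤ k(N) + b k(X/N)` up to the crude count `|N|`; strict form. -/
theorem k_le_of_normal (N : Subgroup X) [N.Normal] {b : ℕ}
    (hb : ∀ x ∉ N, Nat.card (N ⊓ centralizer ({x} : Set X) : Subgroup X) ≤ b) :
    Nat.card (ConjClasses X) * Nat.card X + b * Nat.card X ≤
      (∑ᶠ x : N, Nat.card (centralizer ({(x : X)} : Set X))) +
        b * Nat.card (ConjClasses (X ⧸ N)) * Nat.card X := by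
  classical
  have := Fintype.ofFinite X
  have := Fintype.ofFinite (X ⧸ N)
  have h0 := H83.card_conjClasses_mul (G := X)
  have hq := H83.card_conjClasses_mul (G := X ⧸ N)
  have hc := card_eq_card_quotient_mul_card_subgroup N
  rw [← Finset.sum_filter_add_sum_filter_not Finset.univ (· ∈ N)] at h0
  have hA : ∑ x ∈ Finset.univ.filter (· ∈ N), Nat.card (centralizer ({x} : Set X)) =
      ∑ᶠ x : N, Nat.card (centralizer ({(x : X)} : Set X)) := by
    rw [finsum_eq_sum_of_fintype]
    exact Finset.sum_subtype _ (by simp) _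
  let c : X ⧸ N → ℕ := fun y => Nat.card (centralizer ({y} : Set (X ⧸ N)))
  have hB : ∑ x ∈ Finset.univ.filter (· ∉ N), Nat.card (centralizer ({x} : Set X)) ≤
      b * ∑ x ∈ Finset.univ.filter (· ∉ N), c (x : X ⧸ N) := by
    rw [Finset.mul_sum]
    refine Finset.sum_le_sum fun x hx => (H83.card_cent_le_quot N x).trans ?_
    rw [mul_comm]
    exact Nat.mul_le_mul_right _ (hb x (by simpa using hx))
  have hfib : ∀ y : X ⧸ N, (Finset.univ.filter fun x : X => (x : X ⧸ N) = y).card = Nat.card N :=
    fun y => by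
      obtain ⟨g, rfl⟩ := QuotientGroup.mk_surjective y
      rw [Nat.card_eq_fintype_card, Fintype.card_subtype]
      refine Finset.card_bij (fun x _ => g⁻¹ * x) (fun x hx => ?_) (fun a _ b _ h => by
        simpa using h) (fun n hn => ⟨g * n, ?_, by simp⟩)
      · simpa using QuotientGroup.eq.1 (Finset.mem_filter.1 hx).2.symm
      · simpa using (Finset.mem_filter.1 hn).2
  have hall : ∑ x : X, c (x : X ⧸ N) = Nat.card (ConjClasses (X ⧸ N)) * Nat.card X := by
    rw [← Finset.sum_fiberwise_of_maps_to (t := Finset.univ) (g := fun x : X => (x : X ⧸ N))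
      (fun _ _ => Finset.mem_univ _), hc, ← mul_assoc, hq, Finset.sum_mul]
    refine Finset.sum_congr rfl fun y _ => ?_
    rw [Finset.sum_congr rfl (g := fun _ => c y) (fun x hx => by
      rw [(Finset.mem_filter.1 hx).2]), Finset.sum_const, hfib, smul_eq_mul, mul_comm]
  have hin : ∑ x ∈ Finset.univ.filter (· ∈ N), c (x : X ⧸ N) = Nat.card X := by
    rw [Finset.sum_congr rfl (g := fun _ => Nat.card (X ⧸ N)) (fun x hx => by
      rw [(QuotientGroup.eq_one_iff x).2 (Finset.mem_filter.1 hx).2]
      have : centralizer ({1} : Set (X ⧸ N)) = ⊤ := by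
        ext g; simp [mem_centralizer_singleton_iff]
      simp only [c, this, card_top]), Finset.sum_const, hc, smul_eq_mul, mul_comm,
      Nat.card_eq_fintype_card (α := N), Fintype.card_subtype]
  rw [← Finset.sum_filter_add_sum_filter_not Finset.univ (· ∈ N), hin] at hall
  rw [h0, hA, mul_assoc, ← hall, mul_add]
  omega

/-- crude form: `k(X) + b ≤ |N| + b k(X/N)` -/
theorem k_add_le_of_normal (N : Subgroup X) [N.Normal] {b : ℕ}
    (hb : ∀ x ∉ N, Nat.card (N ⊓ centralizer ({x} : Set X) : Subgroup X) ≤ b) :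
    Nat.card (ConjClasses X) + b ≤ Nat.card N + b * Nat.card (ConjClasses (X ⧸ N)) := by
  classical
  have := Fintype.ofFinite N
  have h := k_le_of_normal N hb
  have h2 : ∑ᶠ x : N, Nat.card (centralizer ({(x : X)} : Set X)) ≤ Nat.card N * Nat.card X := by
    rw [finsum_eq_sum_of_fintype]
    refine (Finset.sum_le_card_nsmul _ _ (Nat.card X) fun x _ => card_le_card_group _).trans ?_
    rw [Finset.card_univ, Nat.card_eq_fintype_card (α := N), smul_eq_mul]
  refine Nat.le_of_mul_le_mul_right ?_ (Nat.card_pos (α := X))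
  rw [add_mul, add_mul]
  omega

end k

namespace Small

variable {X : Type*} [Group X] {Y : Type*} [Group Y] {a b c : ℕ}

theorem mono (h : Small a X) (hab : a ≤ b) : Small b X := fun H => (h H).trans hab

theorem of_card [Finite X] (h : Nat.card X ≤ c) : Small c X :=
  fun H => k_le_card.trans ((card_le_card_group H).trans h)

theorem k_le [Finite X] (h : Small c X) : Nat.card (ConjClasses X) ≤ c :=
  (k_eq_of_equiv topEquiv).ge.trans (h ⊤)

theorem of_injective [Finite X] (h : Small c Y) (f : X →* Y) (hf : Function.Injective f) :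
    Small c X :=
  fun H => (k_eq_of_equiv (H.equivMapOfInjective f hf)).le.trans (h _)

theorem subgroup [Finite X] (h : Small c X) (H : Subgroup X) : Small c H :=
  h.of_injective H.subtype H.subtype_injective

theorem of_surjective [Finite X] (h : Small c X) (f : X →* Y) (hf : Function.Surjective f) :
    Small c Y := fun H => by
  refine (k_le_of_surjective (f.subgroupComap H) (f.subgroupComap_surjective_of_surjective H hf)).trans (h _)

theorem of_equiv [Finite X] (h : Small c X) (e : X ≃* Y) : Small c Y :=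
  h.of_surjective e.toMonoidHom e.surjective

/-- to prove smallness it is enough to bound proper subgroups and the group -/
theorem of_proper [Finite X] (h : ∀ H : Subgroup X, H ≠ ⊤ → Nat.card (ConjClasses H) ≤ c)
    (h' : Nat.card (ConjClasses X) ≤ c) : Small c X := fun H => by
  by_cases hH : H = ⊤
  · subst hH; exact (k_eq_of_equiv topEquiv).le.trans h'
  · exact h H hH

theorem of_hom [Finite X] (f : X →* Y) (hY : Small a Y) (hk : Small b f.ker) :
    Small (a * b) X := fun H => by
  refine (k_le_ker_mul_range (f.domRestrict H)).trans ?_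
  rw [mul_comm]
  refine Nat.mul_le_mul (hY _) ?_
  rw [MonoidHom.ker_domRestrict]
  exact (hk.of_injective (Subgroup.inclusion inf_le_left |>.comp
    (subgroupOfEquivOfLe (K := H) (H := f.ker ⊓ H) inf_le_right).toMonoidHom |>.comp
    (MulEquiv.subgroupCongr (inf_subgroupOf_right f.ker H).symm).toMonoidHom) (by
      simp only [MonoidHom.coe_comp, MulEquiv.coe_toMonoidHom]
      exact ((inclusion_injective _).comp (MulEquiv.injective _)).comp (MulEquiv.injective _))).k_le

theorem of_normal [Finite X] (N : Subgroup X) [N.Normal] (hq : Small a (X ⧸ N)) (hN : Small b N) :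
    Small (a * b) X :=
  of_hom (QuotientGroup.mk' N) hq (by rwa [QuotientGroup.ker_mk'])

/-- `X/N` is a section of `Y` when `ker f ≤ N` -/
theorem quot_of_hom [Finite X] (N : Subgroup X) [N.Normal] (f : X →* Y) (hf : f.ker ≤ N)
    (hY : Small c Y) : Small c (X ⧸ N) :=
  (hY.of_injective (QuotientGroup.kerLift f) (QuotientGroup.kerLift_injective f)).of_surjective
    (QuotientGroup.map f.ker N (MonoidHom.id X) hf) (fun y => by
      obtain ⟨g, rfl⟩ := QuotientGroup.mk_surjective y
      exact ⟨g, rfl⟩)

theorem quot_mono [Finite X] {M N : Subgroup X} [M.Normal] [N.Normal] (hMN : M ≤ N)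
    (h : Small c (X ⧸ M)) : Small c (X ⧸ N) :=
  quot_of_hom N (QuotientGroup.mk' M) (by rwa [QuotientGroup.ker_mk']) h

/-- `H/(H ∩ N)` embeds in `X/N` -/
theorem quot_subgroupOf [Finite X] {N : Subgroup X} [N.Normal] (h : Small c (X ⧸ N))
    (H : Subgroup X) : Small c (H ⧸ N.subgroupOf H) :=
  quot_of_hom _ ((QuotientGroup.mk' N).comp H.subtype) (fun x hx => by
    simpa [mem_subgroupOf] using hx) h

/-- filter `X/N` by the image of a normal subgroup `K` -/
theorem quot_mul [Finite X] (N K : Subgroup X) [N.Normal] [K.Normal] (hq : Small a (X ⧸ K))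
    (hK : Small b (K ⧸ N.subgroupOf K)) : Small (a * b) (X ⧸ N) := by
  refine of_normal (K.map (QuotientGroup.mk' N)) ?_ ?_
  · refine (quot_mono (M := K) (N := (K.map (QuotientGroup.mk' N)).comap (QuotientGroup.mk' N))
      (le_comap_map _ _) hq).of_surjective
      (QuotientGroup.map _ _ (QuotientGroup.mk' N) le_rfl) fun y => ?_
    obtain ⟨z, rfl⟩ := QuotientGroup.mk_surjective y
    obtain ⟨g, rfl⟩ := QuotientGroup.mk_surjective z
    exact ⟨g, rfl⟩
  · refine hK.of_surjective (QuotientGroup.lift _ ((QuotientGroup.mk' N).subgroupMap K) ?_) ?_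
    · intro x hx
      rw [MonoidHom.mem_ker]
      exact Subtype.ext ((QuotientGroup.eq_one_iff _).2 hx)
    · rintro ⟨_, g, hg, rfl⟩
      exact ⟨((⟨g, hg⟩ : K) : K ⧸ N.subgroupOf K), rfl⟩

theorem quot_inf [Finite X] (M N : Subgroup X) [M.Normal] [N.Normal] (hM : Small a (X ⧸ M))
    (hN : Small b (X ⧸ N)) : Small (a * b) (X ⧸ (M ⊓ N)) :=
  quot_mul _ M hM (quot_mono (M := N.subgroupOf M) (fun x hx => ⟨x.2, hx⟩) (hN.quot_subgroupOf M))

/-- a normal subgroup containing the intersection of the `N i` -/
theorem quot_of_family [Finite X] {ι : Type*} (s : Finset ι) (N : ι → Subgroup X)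
    [∀ i, (N i).Normal] (c : ι → ℕ) (h : ∀ i ∈ s, Small (c i) (X ⧸ N i)) (M : Subgroup X)
    [M.Normal] (hM : ∀ x, (∀ i ∈ s, x ∈ N i) → x ∈ M) : Small (∏ i ∈ s, c i) (X ⧸ M) := by
  classical
  induction s using Finset.induction_on generalizing M with
  | empty =>
    obtain rfl : M = ⊤ := eq_top_iff.2 fun x _ => hM x (by simp)
    have := QuotientGroup.subsingleton_quotient_top (G := X)
    exact of_card (by simp [Finite.card_le_one_iff_subsingleton, this])
  | insert i s hi ih =>
    rw [Finset.prod_insert hi]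
    have hn : (⨅ j ∈ s, N j).Normal :=
      ⟨fun x hx g => by
        simp only [mem_iInf] at hx ⊢
        exact fun j hj => Normal.conj_mem inferInstance x (hx j hj) g⟩
    refine quot_mono (M := N i ⊓ ⨅ j ∈ s, N j) (fun x hx => hM x fun j hj => ?_)
      (quot_inf _ _ (h i (by simp)) (ih (fun j hj => h j (by simp [hj])) _ fun x hx => by
        simpa [mem_iInf] using hx))
    rcases Finset.mem_insert.1 hj with rfl | hj
    · exact hx.1
    · exact (by simpa [mem_iInf] using hx.2 : ∀ j ∈ s, x ∈ N j) j hj

end Small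

/-- `Core` for a representation that need not be faithful -/
theorem Core.app {r : ℕ} (h : Core.{u} r) {G : Type u} [Group G] [Finite G] {V : Type}
    [AddCommGroup V] [Module ℂ V] [FiniteDimensional ℂ V] (ρ : Representation ℂ G V)
    (hG : Group.IsSolvable G) (hr : Module.finrank ℂ V = r) :
    ∃ (N : Subgroup G) (_ : N.Normal) (n : ℕ), Small (3 ^ (r - 1)) (G ⧸ N) ∧
      ∀ x ∈ N.lowerCentralSeries n, ρ x = 1 := by
  let K := MonoidHom.ker ρ
  let σ : Representation ℂ (G ⧸ K) V := QuotientGroup.lift K ρ le_rfl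
  have hσ : Function.Injective σ := (injective_iff_map_eq_one σ).2 fun y hy => by
    obtain ⟨g, rfl⟩ := QuotientGroup.mk_surjective y
    exact (QuotientGroup.eq_one_iff g).2 hy
  have h1 := h (G ⧸ K) V σ inferInstance hσ hr
  let N := (fittingSubgroup (G ⧸ K)).comap (QuotientGroup.mk' K)
  have hn := H44.fitting_isNilpotent (G := G ⧸ K)
  obtain ⟨n, hn⟩ := (Subgroup.isNilpotent_iff_lowerCentralSeries _).1 hn
  refine ⟨N, inferInstance, n, Small.quot_of_hom N
    ((QuotientGroup.mk' _).comp (QuotientGroup.mk' K)) (fun x hx => ?_) h1, fun x hx => ?_⟩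
  · simpa [N, mem_comap] using hx
  · have := mem_map_of_mem (QuotientGroup.mk' K) hx
    rw [map_lowerCentralSeries] at this
    have h2 := lowerCentralSeries_mono n (map_comap_le (QuotientGroup.mk' K) _) this
    simp only [hn, mem_bot] at h2
    exact (QuotientGroup.eq_one_iff (N := K) x).1 h2

/-- a normal subgroup whose lower central series dies lies in the Fitting subgroup -/
theorem le_fitting_of_lcs {G : Type*} [Group G] {N : Subgroup G} (hN : N.Normal) {n : ℕ}
    (h : ∀ x ∈ N.lowerCentralSeries n, x = 1) : N ≤ fittingSubgroup G :=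
  H44.le_fitting hN (isNilpotent_of_lowerCentralSeries_eq_bot (n := n)
    (eq_bot_iff.2 fun x hx => h x hx))

end Cfsg.Agent.KR
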