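import Cfsg.Agent.KR.Defs

/-! Project KR: real vectors for representations, systems of imprimitivity, extraspecial data. -/

set_option autoImplicit false

open Subgroup
open scoped commutatorElement

namespace Cfsg.Agent.KR

section real

variable {k F V : Type*} [Field k] [Group F] [AddCommGroup V] [Module k V]

/-- some vector stabiliser preserves a nondegenerate bilinear form on the whole module -/
def RealRep (ρ : Representation k F V) : Prop :=
  ∃ (v : V) (β : V →ₗ[k] V →ₗ[k] k), (∀ x : V, (∀ y, β x y = 0) → x = 0) ∧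
    ∀ g : F, ρ g v = v → ∀ x y : V, β (ρ g x) (ρ g y) = β x y

/-- `RealRep` for the subgroup `H` acting on the subspace `U` -/
def RealOn (ρ : Representation k F V) (H : Subgroup F) (U : Submodule k V) : Prop :=
  ∃ (v : U) (β : U →ₗ[k] U →ₗ[k] k), (∀ x : U, (∀ y, β x y = 0) → x = 0) ∧
    ∀ g ∈ H, ρ g v = v → ∀ x y x' y' : U, (x' : V) = ρ g x → (y' : V) = ρ g y → β x' y' = β x y

/-- a system of imprimitivity given by projections (a direct sum if `F` acts trivially on `ι`) -/
structure Imp (ρ : Representation k F V) (ι : Type*) [Fintype ι] [MulAction F ι]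
    (π : ι → Module.End k V) : Prop where
  sum : ∑ i, π i = 1
  orth : ∀ i j, i ≠ j → π i * π j = 0
  comm : ∀ (g : F) (i : ι), ρ g * π i = π (g • i) * ρ g

/-- irreducibility, elementwise -/
def Irred (ρ : Representation k F V) : Prop :=
  ∀ U : Submodule k V, (∀ g : F, ∀ x ∈ U, ρ g x ∈ U) → U = ⊥ ∨ U = ⊤

end real

/-- `A/Z(G)` is a symplectic section of order `e ^ 2` with maximal isotropic `B/Z(G)` -/
structure Ext {G : Type*} [Group G] (A B : Subgroup G) (e : ℕ) : Prop where
  two : 2 ≤ e
  ZB : center G ≤ B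
  BA : B ≤ A
  comm : ∀ a ∈ A, ∀ b ∈ A, ⁅a, b⁆ ∈ center G
  ab : ∀ a ∈ B, ∀ b ∈ B, a * b = b * a
  self : ∀ a ∈ A, (∀ b ∈ B, a * b = b * a) → a ∈ B
  cardB : Nat.card B = e * Nat.card (center G)
  cardA : Nat.card A = e * Nat.card B

end Cfsg.Agent.KR
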