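import Cfsg.Agent.KR.Defs
import Cfsg.Statements.S4990
import Cfsg.Agent.H34.FongHt

set_option autoImplicit false

open Subgroup
open scoped commutatorElement

namespace Cfsg.Agent.KR

universe u

open H34 in
/-- Gallagher's bound: at most `k(G/N)` characters lie over an invariant character of `N`. -/
theorem fong_card_over {G : Type u} [Group G] [Finite G] (N : Subgroup G) [hN : N.Normal]
    [Fintype N] {ϑ : N → ℂ} (hϑ : IsIrrCharacter N ϑ)
    (hinv : ∀ (g : G) (n : N), ϑ ⟨g * n * g⁻¹, hN.conj_mem (n : G) n.2 g⟩ = ϑ n)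
    (S : Set (IrrCharacter G))
    (hS : ∀ χ ∈ S, classInner (fun n : N => (χ : G → ℂ) n) ϑ ≠ 0) :
    S.ncard ≤ Nat.card (ConjClasses (G ⧸ N)) := by
  classical
  obtain ⟨Γ, _, _, ⟨C⟩⟩ := H30.exists_cover N hϑ hinv
  have : Finite (IrrCharacter G) := H5.linearIndependent_irr.finite
  have := Fintype.ofFinite S
  have := Fintype.ofFinite (ConjClasses (G ⧸ N))
  choose β hβ using fun s : S => exists_TR C hϑ s.1 (hS _ s.2)
  have hinj : Function.Injective β := fun s t h =>
    Subtype.ext (Subtype.ext ((hβ s).left_unique (h ▸ hβ t)))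
  choose y hy using fun c : ConjClasses (G ⧸ N) =>
    (ConjClasses.mk_surjective.comp (trρ_surj C)) c
  have hli : LinearIndependent ℂ fun (s : S) (c : ConjClasses (G ⧸ N)) =>
      (β s : H89.Tri.Q C → ℂ) (y c) := by
    refine Fintype.linearIndependent_iff.2 fun a ha => ?_
    refine Fintype.linearIndependent_iff.1 (H5.linearIndependent_irr.comp β hinj) a
      (funext fun x => ?_)
    obtain ⟨c, hc⟩ := isConj_iff.1 (ConjClasses.mk_eq_mk_iff_isConj.1
      (hy (ConjClasses.mk (trρ C x))))
    obtain ⟨w, rfl⟩ := trρ_surj C c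
    set y0 := y (ConjClasses.mk (trρ C x))
    have h1 : x * (w * y0 * w⁻¹)⁻¹ ∈ (trρ C).ker := by
      rw [MonoidHom.mem_ker, map_mul, map_inv, map_mul, map_mul, map_inv, hc, mul_inv_cancel]
    rw [trρ_ker] at h1
    obtain ⟨z, hz, hz'⟩ := h1
    have h2 : x = H89.Tri.q C z * (w * y0 * w⁻¹) := by rw [hz', inv_mul_cancel_right]
    have h3 : ∀ s, (C.lam ⟨z, hz⟩ : ℂ) * (β s : H89.Tri.Q C → ℂ) x = (β s).1 y0 := fun s => by
      rw [h2, (hβ s).tOver hϑ ⟨z, hz⟩, irr_isClassFunction]
    have h4 := congrFun ha (ConjClasses.mk (trρ C x))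
    simp only [Finset.sum_apply, Pi.smul_apply, smul_eq_mul, Pi.zero_apply,
      Function.comp_apply] at h4 ⊢
    refine mul_left_cancel₀ (C.lam ⟨z, hz⟩).ne_zero ?_
    rw [mul_zero, Finset.mul_sum, ← h4]
    exact Finset.sum_congr rfl fun s _ => by rw [mul_left_comm, h3]
  have h5 := hli.fintype_card_le_finrank
  rwa [Module.finrank_fintype_fun_eq_card, ← Nat.card_eq_fintype_card,
    ← Nat.card_eq_fintype_card, Nat.card_coe_set_eq] at h5

open H34 H32 in
theorem fong_aux (p : ℕ) [hp : Fact p.Prime]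
    (hgrp : ∀ (X : Type u) [Group X] [Finite X], Group.IsSolvable X → pPrimeCore p X = ⊥ →
      Nat.card (ConjClasses X) ≤
        3 ^ ((Nat.card X).factorization p - 1) * p ^ (Nat.card X).factorization p)
    {M : Ideal AlgInt} (hM : IsPModular p M) (n : ℕ) :
    ∀ (G : Type u) [Group G] [Finite G], Nat.card G = n → Group.IsSolvable G →
      ∀ B : Set (IrrCharacter G), IsPBlock M B →
        Set.ncard B ≤ 3 ^ (blockDefect p B - 1) * p ^ blockDefect p B := by
  have := hM.2.1
  induction n using Nat.strong_induction_on with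
  | _ n IH =>
  intro G _ _ hn hG B hB
  classical
  have := Fintype.ofFinite G
  have := Fintype.ofFinite (pPrimeCore p G)
  have hN : ¬ p ∣ Nat.card (pPrimeCore p G) := H33.not_dvd_card_pPrimeCore hp.out
  let E := NEmb.ofNormal (pPrimeCore p G)
  obtain ⟨χ, hχ⟩ := IsPBlock.nonempty hB
  obtain ⟨θ, hθ⟩ := exists_under E.ι χ
  have hb := isPBlock_singleton hM hN θ
  have hc : Covers E.ι B {θ} := ⟨χ, hχ, θ, rfl, hθ⟩
  have hT := NEmb.stab_stabOf (E := E) hb
  by_cases hTop : E.stabOf {θ} = ⊤
  · have hi : E.Inv {θ} := fun g => hT.inv g (hTop ▸ Subgroup.mem_top g)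
    have hinv : ∀ g : G, H6.conjChar (pPrimeCore p G) g θ = θ := fun g => funext fun n => by
      have := congrFun (congrArg Subtype.val (hi g θ rfl)) n
      rwa [NEmb.act_apply, NEmb.ofNormal_cj] at this
    have hQ := H22.IsPSolvable.isCharP_quotient (H22.isPSolvable_of_isSolvable (G := G) (p := p))
    have ho := isPBlock_overSet_of_isCharP hM hN hi (QuotientGroup.mk'_surjective (pPrimeCore p G))
      (by rw [QuotientGroup.ker_mk']; exact (Subgroup.range_subtype _).symm) hQ
    have hB' := hc.eq_overSet hM hb hB ho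
    have hd : blockDefect p B = (Nat.card (G ⧸ pPrimeCore p G)).factorization p := by
      rw [hB', full_defect_overSet hM hN hi ho,
        card_eq_card_quotient_mul_card_subgroup (pPrimeCore p G),
        Nat.factorization_mul Nat.card_pos.ne' Nat.card_pos.ne', Finsupp.add_apply,
        Nat.factorization_eq_zero_of_not_dvd hN, add_zero]
    rw [hd]
    refine (fong_card_over _ θ.2 (fun g n => congrFun (hinv g) n) B fun ψ hψ => ?_).trans
      (hgrp _ inferInstance H44.pPrimeCore_quotient_pPrimeCore)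
    rw [hB'] at hψ
    obtain ⟨_, rfl, h⟩ := hψ
    exact h
  set T := E.stabOf {θ}
  have := Fintype.ofFinite T
  obtain ⟨B', hc', hi⟩ := hT.exists_indBlk hM hb hB hc
  rw [hT.blockDefect_eq hM hb hc' hi]
  refine le_trans ?_ (IH _ (by
    rw [← hn, ← T.card_mul_index]
    exact lt_mul_of_one_lt_right Nat.card_pos (Subgroup.one_lt_index_of_ne_top hTop)) T rfl
    inferInstance B' hi.1)
  have : Finite (IrrCharacter T) := H5.linearIndependent_irr.finite
  have hB2 := hT.eq_indSet hM hb hc' hi
  choose f hf hf' using fun χ : B => (hB2 ▸ χ.2 : χ.1 ∈ indSet T B')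
  rw [← Nat.card_coe_set_eq, ← Nat.card_coe_set_eq]
  refine Nat.card_le_card_of_injective (fun χ : B => (⟨f χ, hf χ⟩ : B')) fun a b h => ?_
  exact Subtype.ext (Subtype.ext (by rw [hf' a, hf' b, show f a = f b from congrArg Subtype.val h]))

/-- notes/KR.md, section Fong -/
theorem fong (p : ℕ) [Fact p.Prime]
    (hgrp : ∀ (X : Type u) [Group X] [Finite X], Group.IsSolvable X → pPrimeCore p X = ⊥ →
      Nat.card (ConjClasses X) ≤
        3 ^ ((Nat.card X).factorization p - 1) * p ^ (Nat.card X).factorization p)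
    {G : Type u} [Group G] [Finite G] (hsolv : Group.IsSolvable G) (M : Ideal AlgInt)
    (hM : IsPModular p M) (B : Set (IrrCharacter G)) (hB : IsPBlock M B)
    (hd : 0 < blockDefect p B) :
    Set.ncard B ≤ 3 ^ (blockDefect p B - 1) * p ^ blockDefect p B :=
  (fun _ => fong_aux p hgrp hM _ G rfl hsolv B hB) hd

end Cfsg.Agent.KR
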