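import Cfsg.Agent.KR.VH
import Cfsg.Agent.H62.NoFlag

set_option autoImplicit false

open Subgroup
open scoped commutatorElement

namespace Cfsg.Agent.KR

universe u

theorem grp_step (p : ℕ) [hp : Fact p.Prime] {Y : Type*} [Group Y] [Finite Y]
    (hY : Group.IsSolvable Y) (P : Subgroup Y) [P.Normal] (hC : centralizer (P : Set Y) ≤ P)
    (hi : ¬ p ∣ P.index) {d : ℕ} (hd : Nat.card P = p ^ d) :
    Nat.card (ConjClasses Y) ≤ 3 ^ (d - 1) * p ^ d := by
  have hP : IsPGroup p P := .of_card hd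
  let Φ := (frattini P).map P.subtype
  have : Φ.Normal := ConjAct.normal_of_characteristic_of_normal
  have ΦP : Φ ≤ P := map_subtype_le _
  let π := QuotientGroup.mk' Φ
  have hπ := QuotientGroup.mk'_surjective Φ
  have : (P.map π).Normal := Normal.map inferInstance π hπ
  obtain ⟨n, hn⟩ := (hP.map π).exists_card_eq
  have c1 : (P.map π).index = P.index := index_map_eq _ hπ (by rwa [QuotientGroup.ker_mk'])
  have h1 := vh p (P.map π) (by
    rintro _ ⟨v, hv, rfl⟩
    rw [← map_pow]
    exact (QuotientGroup.eq_one_iff _).2 ⟨_, H3.pow_mem_frattini hP ⟨v, hv⟩, rfl⟩) (c1 ▸ hi)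
    (le_antisymm (fun g hg => ?_) ?_) inferInstance hn
  · have c2 := (P.map π).card_mul_index
    have c3 := P.card_mul_index
    have c4 := card_eq_card_quotient_mul_card_subgroup Φ
    have c5 : Nat.card Φ * p ^ n = p ^ d := Nat.eq_of_mul_eq_mul_right
      (Nat.pos_of_ne_zero (index_ne_zero_of_finite (H := P))) (by
        rw [← hd, c3, c4, ← c2, c1, hn]; ring)
    have c6 : n ≤ d := (Nat.pow_dvd_pow_iff_le_right hp.out.one_lt).1 ⟨_, by rw [← c5, mul_comm]⟩
    calc Nat.card (ConjClasses Y) ≤ Nat.card Φ * (3 ^ (n - 1) * p ^ n) :=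
          (S4201.result Φ).trans (Nat.mul_le_mul k_le_card h1)
      _ = 3 ^ (n - 1) * p ^ d := by rw [← c5]; ring
      _ ≤ _ := Nat.mul_le_mul_right _ (Nat.pow_le_pow_right (by norm_num) (by omega))
  · obtain ⟨g, rfl⟩ := hπ g
    refine mem_map_of_mem π ?_
    obtain ⟨v, hv⟩ := H62.pElt_of_frattini hP (α := MulAut.conjNormal g) fun x => by
      obtain ⟨y, hy, e⟩ : (x : Y)⁻¹ * (g * x * g⁻¹) ∈ Φ := by
        rw [← QuotientGroup.eq_one_iff]
        change π _ = 1
        rw [map_mul, map_mul, map_mul, ← hg _ (mem_map_of_mem π x.2)]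
        simp [π]
      rwa [← (Subtype.ext e : y = x⁻¹ * MulAut.conjNormal g x)]
    have h2 : g ^ p ^ v ∈ P := hC fun x hx => by
      have := congrArg (fun α : MulAut P => (α ⟨x, hx⟩ : Y)) hv
      simp only [← map_pow, MulAut.conjNormal_apply, MulAut.one_apply] at this
      exact (mul_inv_eq_iff_eq_mul.1 this).symm
    have h3 := P.pow_index_mem g
    rw [← QuotientGroup.eq_one_iff, QuotientGroup.mk_pow] at h2 h3
    rw [← QuotientGroup.eq_one_iff, ← orderOf_eq_one_iff]
    exact Nat.eq_one_of_dvd_coprimes (((Nat.Prime.coprime_iff_not_dvd hp.out).2 hi).pow_left v)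
      (orderOf_dvd_of_pow_eq_one h2) (orderOf_dvd_of_pow_eq_one h3)
  · rintro _ ⟨a, ha, rfl⟩ _ ⟨b, hb, rfl⟩
    rw [← commutatorElement_eq_one_iff_mul_comm, ← map_commutatorElement]
    exact (QuotientGroup.eq_one_iff _).2 ⟨⁅(⟨b, hb⟩ : P), ⟨a, ha⟩⁆, H3.commutator_le_frattini hP
      (commutator_mem_commutator (mem_top _) (mem_top _)), rfl⟩

/-- notes/KR.md, section Grp -/
theorem grp (p : ℕ) [Fact p.Prime] (X : Type u) [Group X] [Finite X] (hX : Group.IsSolvable X)
    (h : pPrimeCore p X = ⊥) : Nat.card (ConjClasses X) ≤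
      3 ^ ((Nat.card X).factorization p - 1) * p ^ (Nat.card X).factorization p := by
  have hp : p.Prime := Fact.out
  revert hX h
  refine H2.card_induction (P := fun X _ _ => Group.IsSolvable X → pPrimeCore p X = ⊥ →
    Nat.card (ConjClasses X) ≤
      3 ^ ((Nat.card X).factorization p - 1) * p ^ (Nat.card X).factorization p) X ?_
  intro X _ _ ih hX h
  have hC : centralizer (pCore p X : Set X) ≤ pCore p X :=
    H44.fitting_eq_pCore_of_pPrimeCore_eq_bot h ▸ S0044.result
  have := H44.pCore_characteristic (p := p) (G := X)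
  obtain ⟨d, hd⟩ := (H44.pCore_isPGroup (p := p) (G := X)).exists_card_eq
  generalize pCore p X = P at *
  rcases Nat.eq_zero_or_pos d with rfl | d0
  · obtain rfl : P = ⊥ := card_eq_one.1 hd
    have : Nat.card X = 1 := by
      rw [← card_top, card_eq_one, eq_bot_iff]
      exact fun g _ => hC fun x hx => by rw [mem_bot.1 hx]; simp
    exact k_le_card.trans (by simp [this])
  have := H44.pPrimeCore_characteristic (p := p) (G := X ⧸ P)
  let φ := (QuotientGroup.mk' (pPrimeCore p (X ⧸ P))).comp (QuotientGroup.mk' P)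
  have hφ : Function.Surjective φ :=
    (QuotientGroup.mk'_surjective _).comp (QuotientGroup.mk'_surjective _)
  have hk : φ.ker = (pPrimeCore p (X ⧸ P)).comap (QuotientGroup.mk' P) := by
    rw [← MonoidHom.comap_ker, QuotientGroup.ker_mk']
  have hP : P ≤ φ.ker := fun x hx => by
    rw [hk, mem_comap, show QuotientGroup.mk' P x = 1 from (QuotientGroup.eq_one_iff x).2 hx]
    exact one_mem _
  have hi : ¬ p ∣ (P.subgroupOf φ.ker).index := by
    have e : P.relIndex φ.ker = Nat.card (pPrimeCore p (X ⧸ P)) := by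
      have := relIndex_comap ⊥ (QuotientGroup.mk' P) φ.ker
      rwa [MonoidHom.comap_bot, QuotientGroup.ker_mk', hk, map_comap_eq_self_of_surjective
        (QuotientGroup.mk'_surjective P), relIndex_bot_left, ← hk] at this
    rw [show (P.subgroupOf φ.ker).index = _ from e]
    exact hp.coprime_iff_not_dvd.1 H44.pPrimeCore_coprime.symm
  have hd' : Nat.card (P.subgroupOf φ.ker) = p ^ d :=
    (Nat.card_congr (subgroupOfEquivOfLe hP).toEquiv).trans hd
  have h1 := grp_step p inferInstance (P.subgroupOf φ.ker) (fun g hg => hC fun x hx =>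
    congrArg Subtype.val (hg ⟨x, hP hx⟩ hx)) hi hd'
  have c1 := φ.ker.card_mul_index
  rw [index_ker, MonoidHom.range_eq_top.2 hφ, card_top] at c1
  have c2 := (P.subgroupOf φ.ker).card_mul_index
  have c3 : 1 < Nat.card φ.ker :=
    (Nat.one_lt_pow d0.ne' hp.one_lt).trans_le (hd ▸ card_le_of_le hP)
  have h2 := ih _ (c1 ▸ lt_mul_of_one_lt_left Nat.card_pos c3) inferInstance
    H44.pPrimeCore_quotient_pPrimeCore
  have h3 := k_le_ker_mul_range φ
  rw [MonoidHom.range_eq_top.2 hφ, k_eq_of_equiv topEquiv] at h3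
  rw [← c1, Nat.factorization_mul Nat.card_pos.ne' Nat.card_pos.ne', ← c2, hd',
    Nat.factorization_mul (pow_pos hp.pos d).ne' index_ne_zero_of_finite, Finsupp.add_apply,
    Finsupp.add_apply, Nat.factorization_eq_zero_of_not_dvd hi, hp.factorization_pow,
    Finsupp.single_eq_same, add_zero]
  generalize (Nat.card ((X ⧸ P) ⧸ pPrimeCore p (X ⧸ P))).factorization p = e at h2
  calc _ ≤ 3 ^ (d - 1) * p ^ d * (3 ^ (e - 1) * p ^ e) := h3.trans (Nat.mul_le_mul h1 h2)
    _ = 3 ^ (d - 1 + (e - 1)) * p ^ (d + e) := by ring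
    _ ≤ _ := Nat.mul_le_mul_right _ (Nat.pow_le_pow_right (by norm_num) (by omega))

end Cfsg.Agent.KR
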