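import Cfsg.Agent.KR.Perm
import Cfsg.Agent.H67.Wt

/-! Project KR: the weight spaces of a non-scalar abelian normal subgroup. -/

set_option autoImplicit false

open Subgroup
open scoped commutatorElement

namespace Cfsg.Agent.KR

universe u

namespace LinAx

open H67 Module Polynomial

variable {G : Type*} [Group G] {V : Type*} [AddCommGroup V] [Module ℂ V]

theorem span_top [Finite G] [FiniteDimensional ℂ V] (ρ : Representation ℂ G V) (A : Subgroup G)
    (hA : ∀ a ∈ A, ∀ b ∈ A, a * b = b * a) : ⨆ χ : A → ℂ, wsp (fun a : A => ρ a) χ = ⊤ := by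
  have ss : ∀ g : G, End.IsSemisimple (ρ g) := fun g =>
    End.isSemisimple_of_squarefree_aeval_eq_zero (f := ρ g)
      (separable_X_pow_sub_C (n := Nat.card G) (1 : ℂ) (Nat.cast_ne_zero.2 Nat.card_pos.ne')
        one_ne_zero).squarefree (by
          rw [map_sub, aeval_X_pow, ← map_pow, pow_card_eq_one', map_one, aeval_C, map_one, sub_self])
  have := End.iSup_iInf_maxGenEigenspace_eq_top_of_iSup_maxGenEigenspace_eq_top_of_commute
    (fun a : A => ρ a) (fun a b _ => show ρ a * ρ b = ρ b * ρ a by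
      rw [← map_mul, hA _ a.2 _ b.2, map_mul])
    fun a => End.iSup_maxGenEigenspace_eq_top _
  simpa only [wsp, (ss _).isFinitelySemisimple.maxGenEigenspace_eq_eigenspace] using this

/-- the weights -/
abbrev Wts (ρ : Representation ℂ G V) (A : Subgroup G) : Type _ :=
  {χ : A → ℂ // wsp (fun a : A => ρ a) χ ≠ ⊥}

theorem map_mem (ρ : Representation ℂ G V) (A : Subgroup G) [A.Normal] (g : G) {χ : A → ℂ} {x : V}
    (hx : x ∈ wsp (fun a : A => ρ a) χ) :
    ρ g x ∈ wsp (fun a : A => ρ a) fun a => χ (MulAut.conjNormal g⁻¹ a) := mem_wsp.2 fun a => by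
  rw [← map_smul, ← mem_wsp.1 hx, ← End.mul_apply, ← End.mul_apply, ← map_mul, ← map_mul,
    MulAut.conjNormal_apply, inv_inv, mul_assoc, mul_inv_cancel_left]

/-- the action on the weights -/
@[reducible] def act (ρ : Representation ℂ G V) (A : Subgroup G) [A.Normal] : MulAction G (Wts ρ A) where
  smul g χ := ⟨fun a => χ.1 (MulAut.conjNormal g⁻¹ a), by
    obtain ⟨x, hx, h0⟩ := (Submodule.ne_bot_iff _).1 χ.2
    refine (Submodule.ne_bot_iff _).2 ⟨_, map_mem ρ A g hx, fun e => h0 ?_⟩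
    have := congrArg (ρ g⁻¹) e
    rwa [← End.mul_apply, ← map_mul, inv_mul_cancel, map_one, map_zero] at this⟩
  one_smul χ := Subtype.ext (funext fun a => congrArg χ.1 (by simp))
  mul_smul g h χ := Subtype.ext (funext fun a => congrArg χ.1 (by simp))

end LinAx

open LinAx H67 in
/-- notes/KR.md, section LinA -/
theorem linA {r : ℕ} (IH : ∀ s < r, Core.{u} s) {G : Type u} [Group G] [Finite G] {V : Type}
    [AddCommGroup V] [Module ℂ V] [FiniteDimensional ℂ V] (ρ : Representation ℂ G V)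
    (hG : Group.IsSolvable G) (hρ : Function.Injective ρ) (hr : Module.finrank ℂ V = r)
    (A : Subgroup G) [A.Normal] (hA : ∀ a ∈ A, ∀ b ∈ A, a * b = b * a)
    (hns : ¬ ∀ a ∈ A, ∃ c : ℂ, ∀ x, ρ a x = c • x) :
    Small (3 ^ (r - 1)) (G ⧸ fittingSubgroup G) := by
  classical
  have top := span_top ρ A hA
  have fin : Finite (Wts ρ A) :=
    (WellFoundedGT.finite_ne_bot_of_iSupIndep (iSupIndep_wsp fun a : A => ρ a)).to_subtype
  have := Fintype.ofFinite (Wts ρ A)
  let _ := act ρ A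
  let W : Wts ρ A → Submodule ℂ V := fun χ => wsp (fun a : A => ρ a) χ.1
  have ext : ∀ g : G, (∀ χ, ∀ x ∈ W χ, ρ g x = x) → g = 1 := fun g h => hρ (by
    rw [map_one, ← LinearMap.eqLocus_eq_top, eq_top_iff, ← top]
    refine iSup_le fun χ x hx => ?_
    by_cases c : wsp (fun a : A => ρ a) χ = ⊥
    · rw [c, Submodule.mem_bot] at hx
      rw [hx]; exact zero_mem _
    · exact h ⟨χ, c⟩ x hx)
  have ne : Nonempty (Wts ρ A) := by
    by_contra c
    exact hns fun a _ => ⟨1, fun x => by rw [ext a fun χ => (c ⟨χ⟩).elim]; simp⟩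
  have lt : ∀ χ, Module.finrank ℂ (W χ) < r := fun χ => hr ▸ Submodule.finrank_lt fun c =>
    hns fun a ha => ⟨χ.1 ⟨a, ha⟩, fun x => mem_wsp.1 (c.ge Submodule.mem_top) ⟨a, ha⟩⟩
  let φ := MulAction.toPermHom G (Wts ρ A)
  let K := φ.ker
  have h1 : Small (3 ^ (Nat.card (Wts ρ A) - 1)) (G ⧸ K) := by
    have : Group.IsSolvable φ.range := Group.isSolvable_of_surjective φ.rangeRestrict_surjective
    exact Small.quot_of_hom K φ.rangeRestrict (MonoidHom.ker_rangeRestrict φ).le
      (Small.of_card (perm_card φ.range (Wts ρ A)))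
  have inv : ∀ χ, ∀ g : K, W χ ≤ (W χ).comap ((ρ.comp K.subtype) g) := fun χ g x hx => by
    have e : g.1 • χ = χ := congrArg (fun σ : Equiv.Perm _ => σ χ) g.2
    have := map_mem ρ A g.1 hx
    rwa [show (fun a => χ.1 (MulAut.conjNormal (g : G)⁻¹ a)) = χ.1 from congrArg Subtype.val e] at this
  choose N hN n h2 h3 using fun χ => (IH _ (lt χ)).app
    (Representation.subrepresentation (ρ.comp K.subtype) (W χ) (inv χ)) inferInstance rfl
  have hM : (⨅ χ, N χ).Normal := normal_iInf_normal hN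
  have hF : ⨅ χ, N χ ≤ fittingSubgroup K := le_fitting_of_lcs hM (n := Finset.univ.sup n) fun x hx =>
    Subtype.ext (ext x fun χ v hv => congrArg Subtype.val (LinearMap.congr_fun (h3 χ x
      (lowerCentralSeries_mono _ (iInf_le N χ) (Subgroup.lowerCentralSeries_antitone _
        (Finset.le_sup (Finset.mem_univ χ)) hx))) ⟨v, hv⟩))
  have h4 := Small.quot_of_family Finset.univ N _ (fun χ _ => h2 χ) ((fittingSubgroup G).subgroupOf K)
    fun x hx => H44.fittingOf_le_of_subnormal (Normal.isSubnormal inferInstance)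
      ⟨x, hF (mem_iInf.2 fun χ => hx χ (Finset.mem_univ χ)), rfl⟩
  refine (Small.quot_mul _ K h1 h4).mono ?_
  rw [Finset.prod_pow_eq_pow_sum, ← pow_add]
  refine Nat.pow_le_pow_right (by norm_num) ?_
  have s1 : ∑ χ, Module.finrank ℂ (W χ) ≤ r := hr ▸ sum_finrank_wsp_le _ Subtype.val_injective
  have s2 : ∑ χ, Module.finrank ℂ (W χ) = ∑ χ, (Module.finrank ℂ (W χ) - 1) + Nat.card (Wts ρ A) := by
    rw [Nat.card_eq_fintype_card, Fintype.card_eq_sum_ones, ← Finset.sum_add_distrib]
    exact Finset.sum_congr rfl fun χ _ => (Nat.sub_add_cancel (Submodule.one_le_finrank_iff.2 χ.2)).symm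
  have s3 : 0 < Nat.card (Wts ρ A) := Nat.card_pos
  omega

end Cfsg.Agent.KR
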