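import Cfsg.Agent.KR.Defs2
import Cfsg.Agent.H67.Wt
import Cfsg.Agent.H34.JBF1

set_option autoImplicit false

open Subgroup
open scoped commutatorElement

namespace Cfsg.Agent.KR

universe u

/-- the characters that are trivial on a normal subgroup -/
theorem linB2_card {B : Type*} [Group B] [Finite B] (Z : Subgroup B) [Z.Normal] :
    Finite {η : B →* ℂ // ∀ z ∈ Z, η z = 1} ∧ Nat.card {η : B →* ℂ // ∀ z ∈ Z, η z = 1} ≤ Z.index := by
  let φ : {η : B →* ℂ // ∀ z ∈ Z, η z = 1} → (B ⧸ Z →* ℂ) := fun η => QuotientGroup.lift Z η.1 η.2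
  have hφ : Function.Injective φ := fun χ ψ h =>
    Subtype.ext (MonoidHom.ext fun c => DFunLike.congr_fun h (QuotientGroup.mk c))
  have := Fintype.ofFinite (B ⧸ Z)
  have h1 := (linearIndependent_monoidHom (B ⧸ Z) ℂ).comp φ hφ
  have hf := h1.finite
  have := Fintype.ofFinite {η : B →* ℂ // ∀ z ∈ Z, η z = 1}
  have h2 := h1.fintype_card_le_finrank
  rw [Module.finrank_fintype_fun_eq_card, ← Nat.card_eq_fintype_card, ← Nat.card_eq_fintype_card] at h2
  exact ⟨hf, h2⟩

/-- notes/KR.md, section LinB2 -/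
theorem linB2 {G : Type u} [Group G] [Finite G] {V : Type}
    [AddCommGroup V] [Module ℂ V] [FiniteDimensional ℂ V] (ρ : Representation ℂ G V)
    (hρ : Function.Injective ρ) (hZ : ∀ a ∈ center G, ∃ c : ℂ, ∀ x, ρ a x = c • x)
    {A B : Subgroup G} {e : ℕ} (h : Ext A B e) :
    ∃ U : Submodule ℂ V, (∀ g ∈ centralizer (A : Set G), ∀ x ∈ U, ρ g x ∈ U) ∧
      (∀ g ∈ centralizer (A : Set G), (∀ x ∈ U, ρ g x = x) → g = 1) ∧
      e * Module.finrank ℂ U ≤ Module.finrank ℂ V := by
  classical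
  rcases subsingleton_or_nontrivial V with hV | hV
  · exact ⟨⊥, fun _ _ _ _ => Subsingleton.elim _ (0 : V),
      fun g _ _ => hρ (LinearMap.ext fun _ => Subsingleton.elim _ _), by simp⟩
  choose! c hc using hZ
  obtain ⟨v, -, hv⟩ := H34.exists_eigV (σ := ρ) h.ab ⊤ top_ne_bot fun _ _ _ _ => trivial
  obtain ⟨χ, hχ⟩ := hv.exists_wt
  have v0 := hv.1
  have cmul : ∀ a ∈ center G, ∀ b ∈ center G, c (a * b) = c a * c b := fun a ha b hb =>
    smul_left_injective ℂ v0 (by
      simp only [← hc _ (mul_mem ha hb), map_mul, Module.End.mul_apply, hc b hb, map_smul, hc a ha, smul_smul,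
        mul_comm])
  have cone : c 1 = 1 := smul_left_injective ℂ v0 (by simp only [← hc _ (one_mem _), map_one, one_smul]; rfl)
  have cinj : ∀ a ∈ center G, ∀ b ∈ center G, c a = c b → a = b := fun a ha b hb e =>
    hρ (LinearMap.ext fun x => by rw [hc a ha, hc b hb, e])
  have ne0 : ∀ (μ : B →* ℂ) (b : B), μ b ≠ 0 := fun μ b => (μ.toHomUnits b).ne_zero
  have mv : ∀ a ∈ A, ∀ (b : B) (w : V) (m : ℂ), ρ b w = m • w → ρ b (ρ a w) = (c ⁅(b : G), a⁆ * m) • ρ a w :=
    fun a ha b w m hw => by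
      have : (b : G) * a = ⁅(b : G), a⁆ * (a * b) := by rw [commutatorElement_def]; group
      rw [← Module.End.mul_apply, ← map_mul, this, map_mul, map_mul, Module.End.mul_apply,
        hc _ (h.comm _ (h.BA b.2) _ ha), Module.End.mul_apply, hw, map_smul, smul_smul]
  obtain ⟨hf, hcard⟩ := linB2_card ((center G).subgroupOf B)
  let X := {η : B →* ℂ // ∀ z ∈ (center G).subgroupOf B, η z = 1}
  let κ : A → X := fun a => ⟨⟨⟨fun b => c ⁅(b : G), a⁆, by simp [cone]⟩, fun b b' => by
      have m1 := h.comm _ (h.BA b.2) _ a.2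
      have m2 := h.comm _ (h.BA b'.2) _ a.2
      have : ⁅((b * b' : B) : G), (a : G)⁆ = b * ⁅(b' : G), (a : G)⁆ * (b : G)⁻¹ * ⁅(b : G), (a : G)⁆ := by
        simp only [coe_mul, commutatorElement_def]; group
      simp only [this]
      rw [mem_center_iff.1 m2, mul_inv_cancel_right, cmul _ m2 _ m1, mul_comm]⟩, fun z hz => by
    have : ⁅(z : G), (a : G)⁆ = 1 :=
      commutatorElement_eq_one_iff_mul_comm.2 (mem_center_iff.1 (mem_subgroupOf.1 hz) a).symm
    change c ⁅(z : G), (a : G)⁆ = 1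
    rw [this, cone]⟩
  have hZ0 : 0 < Nat.card (center G) := Nat.card_pos
  have hB0 : 0 < Nat.card B := Nat.card_pos
  have i1 : ((center G).subgroupOf B).index = e := by
    have := ((center G).subgroupOf B).index_mul_card
    rw [Nat.card_congr (subgroupOfEquivOfLe h.ZB).toEquiv, h.cardB] at this
    exact Nat.eq_of_mul_eq_mul_right hZ0 this
  have i2 : B.relIndex A = e := by
    have := (B.subgroupOf A).index_mul_card
    rw [Nat.card_congr (subgroupOfEquivOfLe h.BA).toEquiv, h.cardA] at this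
    exact Nat.eq_of_mul_eq_mul_right hB0 this
  have i3 : B.relIndex A ≤ Nat.card (Set.range κ) :=
    H34.relIndex_le_of_map (fun a => ⟨κ a, a, rfl⟩) fun a a' e => by
      refine h.self _ (mul_mem (inv_mem a.2) a'.2) fun b hb => ?_
      have e1 : c ⁅b, (a : G)⁆ = c ⁅b, (a' : G)⁆ :=
        DFunLike.congr_fun (congrArg (fun y : Set.range κ => y.1.1) e) ⟨b, hb⟩
      have e2 := cinj _ (h.comm _ (h.BA hb) _ a.2) _ (h.comm _ (h.BA hb) _ a'.2) e1
      simp only [commutatorElement_def, mul_assoc, mul_right_inj] at e2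
      calc (a : G)⁻¹ * a' * b = b * (a : G)⁻¹ * (a * (b⁻¹ * (a : G)⁻¹)) * a' * b := by group
        _ = _ := by rw [e2]; group
  rw [i1] at hcard
  rw [i2] at i3
  have surj : Function.Surjective κ := by
    rw [← Set.range_eq_univ]
    refine Set.eq_of_subset_of_ncard_le (Set.subset_univ _) ?_
    rw [Set.ncard_univ, ← Nat.card_coe_set_eq]
    exact hcard.trans i3
  have cX : e ≤ Nat.card X := i3.trans (Nat.card_le_card_of_injective _ Subtype.val_injective)
  refine ⟨H67.wsp (fun b : B => ρ b) χ, fun g hg x hx => H67.mem_wsp.2 fun b => ?_, fun g hg hU => ?_, ?_⟩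
  · rw [H34.rep_comm_apply (hg _ (h.BA b.2)), H67.mem_wsp.1 hx b, map_smul]
  · have eig : ∀ w, H34.EigV ρ B w → ρ g w = w := fun w hw => by
      obtain ⟨μ, hμ⟩ := hw.exists_wt
      obtain ⟨a, ha⟩ := surj ⟨⟨⟨fun b => χ b * (μ b)⁻¹, by simp⟩, fun b b' => by
        simp only [map_mul, mul_inv]; ring⟩, fun z hz => by
          have e1 : χ z = c z := smul_left_injective ℂ v0 ((hχ z).symm.trans (hc _ hz v))
          have e2 : μ z = c z := smul_left_injective ℂ hw.1 ((hμ z).symm.trans (hc _ hz w))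
          change χ z * (μ z)⁻¹ = 1
          rw [e1, ← e2, mul_inv_cancel₀ (ne0 μ z)]⟩
      have := hU (ρ a w) (H67.mem_wsp.2 fun b => by
        have e1 : c ⁅(b : G), (a : G)⁆ = χ b * (μ b)⁻¹ := DFunLike.congr_fun (congrArg Subtype.val ha) b
        rw [mv a a.2 b w _ (hμ b), e1, inv_mul_cancel_right₀ (ne0 μ b)])
      rw [← H34.rep_comm_apply (hg _ a.2)] at this
      simpa using congrArg (ρ (a : G)⁻¹) this
    have hT : ∀ x ∈ B ⊔ zpowers g, ∀ y ∈ B ⊔ zpowers g, x * y = y * x := by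
      have k1 : B ⊔ zpowers g ≤ centralizer (B : Set G) :=
        sup_le (fun x hx y hy => h.ab y hy x hx) (zpowers_le.2 fun y hy => hg y (h.BA hy))
      have k2 : B ⊔ zpowers g ≤ centralizer ({g} : Set G) :=
        sup_le (fun x hx => mem_centralizer_singleton_iff.2 (hg x (h.BA hx)))
          (zpowers_le.2 (mem_centralizer_singleton_iff.2 rfl))
      have k3 : B ⊔ zpowers g ≤ centralizer ((B ⊔ zpowers g : Subgroup G) : Set G) :=
        sup_le (le_centralizer_iff.1 k1)
          (zpowers_le.2 fun y hy => mem_centralizer_singleton_iff.1 (k2 hy))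
      exact fun x hx y hy => k3 hy x hx
    refine hρ (LinearMap.ext fun u => ?_)
    rw [map_one]
    exact H34.fix_of_eigV (A := B ⊔ zpowers g) (S := ∅)
      ⟨hT, fun x _ => ⟨orderOf x, by exact_mod_cast (orderOf_pos x).ne', pow_orderOf_eq_one x⟩⟩
      (Set.empty_subset _) (mem_sup_right (mem_zpowers g)) (fun w hw _ => eig w (hw.mono le_sup_left))
      fun _ hx => hx.elim
  · have := Fintype.ofFinite X
    have k := H67.sum_finrank_wsp_le (fun b : B => ρ b) (χ := fun (η : X) b => η.1 b * χ b) fun η η' e =>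
      Subtype.ext (MonoidHom.ext fun b => mul_right_cancel₀ (ne0 χ b) (congrFun e b))
    refine le_trans ?_ k
    refine le_trans ?_ (Finset.card_nsmul_le_sum _ _ (Module.finrank ℂ (H67.wsp (fun b : B => ρ b) χ))
      fun η _ => ?_)
    · rw [Finset.card_univ, ← Nat.card_eq_fintype_card, smul_eq_mul]
      exact Nat.mul_le_mul_right _ cX
    · obtain ⟨a, rfl⟩ := surj η
      refine LinearMap.finrank_le_finrank_of_injective (f := (ρ a).restrict fun x hx =>
        H67.mem_wsp.2 fun b => mv a a.2 b x _ (H67.mem_wsp.1 hx b)) fun x y e => Subtype.ext ?_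
      simpa using congrArg (fun t => ρ (a : G)⁻¹ t.1) e

end Cfsg.Agent.KR
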