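import Cfsg.Agent.KR.SymAll
import Cfsg.Agent.KR.LinB2
import Cfsg.Agent.H2.MinNormal

set_option autoImplicit false

open Subgroup
open scoped commutatorElement IsMulCommutative

namespace Cfsg.Agent.KR

universe u

section
variable {G : Type*} [Group G]

theorem linB1_r {g b b' : G} (h : ⁅g, b'⁆ ∈ center G) : ⁅g, b * b'⁆ = ⁅g, b⁆ * ⁅g, b'⁆ := by
  have : ⁅g, b * b'⁆ = ⁅g, b⁆ * (b * ⁅g, b'⁆ * b⁻¹) := by simp only [commutatorElement_def]; group
  rw [this, mem_center_iff.1 h, mul_inv_cancel_right]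

theorem linB1_l {a a' b : G} (h : ⁅a', b⁆ ∈ center G) : ⁅a * a', b⁆ = ⁅a, b⁆ * ⁅a', b⁆ := by
  have : ⁅a * a', b⁆ = a * ⁅a', b⁆ * a⁻¹ * ⁅a, b⁆ := by simp only [commutatorElement_def]; group
  rw [this, mem_center_iff.1 h, mul_inv_cancel_right, mem_center_iff.1 h]

theorem linB1_pow {g b : G} (h : ⁅g, b⁆ ∈ center G) (n : ℕ) : ⁅g, b ^ n⁆ = ⁅g, b⁆ ^ n := by
  induction n with
  | zero => simp
  | succ n ih => rw [pow_succ, linB1_r h, ih, pow_succ]

theorem linB1_z {g z : G} (h : z ∈ center G) : ⁅g, z⁆ = 1 :=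
  commutatorElement_eq_one_iff_mul_comm.2 (mem_center_iff.1 h g)

theorem linB1_congr {a a' b b' : G} (h1 : a⁻¹ * a' ∈ center G) (h2 : b⁻¹ * b' ∈ center G) :
    ⁅a', b'⁆ = ⁅a, b⁆ := by
  have e1 : ∀ y : G, ⁅a⁻¹ * a', y⁆ = 1 := fun y =>
    commutatorElement_eq_one_iff_mul_comm.2 (mem_center_iff.1 h1 y).symm
  rw [← mul_inv_cancel_left a a', ← mul_inv_cancel_left b b', linB1_l (by rw [e1]; exact one_mem _), e1,
    mul_one, linB1_r (by rw [linB1_z h2]; exact one_mem _), linB1_z h2, mul_one]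

variable [Finite G]

theorem linB1_char (hZ : IsCyclic (center G)) : ∃ c : G → ℂ, c 1 = 1 ∧
    (∀ a ∈ center G, ∀ b ∈ center G, c (a * b) = c a * c b) ∧
    ∀ a ∈ center G, ∀ b ∈ center G, c a = c b → a = b := by
  classical
  have : NeZero (Nat.card (center G)) := ⟨Nat.card_pos.ne'⟩
  let e : center G ≃* rootsOfUnity (Nat.card (center G)) ℂ :=
    mulEquivOfCyclicCardEq (Complex.card_rootsOfUnity _).symm
  refine ⟨fun a => if h : a ∈ center G then ((e ⟨a, h⟩ : ℂˣ) : ℂ) else 1, ?_, fun a ha b hb => ?_,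
    fun a ha b hb h => ?_⟩
  · simp only [dif_pos (one_mem (center G))]
    exact congrArg (fun x : rootsOfUnity _ ℂ => ((x : ℂˣ) : ℂ)) e.map_one
  · simp only [dif_pos ha, dif_pos hb, dif_pos (mul_mem ha hb)]
    exact congrArg (fun x : rootsOfUnity _ ℂ => ((x : ℂˣ) : ℂ)) (e.map_mul ⟨a, ha⟩ ⟨b, hb⟩)
  · simp only [dif_pos ha, dif_pos hb] at h
    exact congrArg Subtype.val (e.injective (Subtype.ext (Units.ext h)))

/-- the commutator pairing bounds an index -/
theorem linB1_idx (hZ : IsCyclic (center G)) {P P' R R' : Subgroup G} (hZR : center G ≤ R')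
    (h1 : ∀ a ∈ R, ∀ b ∈ R, ⁅a, b⁆ ∈ center G) (h2 : ∀ a ∈ P, ∀ b ∈ R, ⁅a, b⁆ ∈ center G)
    (h3 : ∀ a ∈ P, ∀ b ∈ R', a * b = b * a) (h4 : ∀ a ∈ P, (∀ b ∈ R, a * b = b * a) → a ∈ P') :
    P'.relIndex P ≤ R'.relIndex R := by
  obtain ⟨c, cone, cmul, cinj⟩ := linB1_char hZ
  have : (R'.subgroupOf R).Normal := ⟨fun n hn g => by
    rw [mem_subgroupOf] at hn ⊢
    have : ((g * n * g⁻¹ : R) : G) = ⁅(g : G), (n : G)⁆ * n := by
      simp only [coe_mul, coe_inv, commutatorElement_def]; group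
    rw [this]
    exact mul_mem (hZR (h1 _ g.2 _ n.2)) hn⟩
  obtain ⟨hf, hcard⟩ := linB2_card (R'.subgroupOf R)
  refine le_trans (H34.relIndex_le_of_map (X := {η : R →* ℂ // ∀ z ∈ R'.subgroupOf R, η z = 1})
    (fun a => ⟨⟨⟨fun b => c ⁅(a : G), (b : G)⁆, by simp [cone]⟩, fun b b' => ?_⟩, fun z hz => ?_⟩)
    fun a a' e => ?_) hcard
  · simp only [coe_mul]
    rw [linB1_r (h2 _ a.2 _ b'.2), cmul _ (h2 _ a.2 _ b.2) _ (h2 _ a.2 _ b'.2)]
  · change c ⁅(a : G), (z : G)⁆ = 1
    rw [commutatorElement_eq_one_iff_mul_comm.2 (h3 _ a.2 _ (mem_subgroupOf.1 hz)), cone]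
  · refine h4 _ (mul_mem (inv_mem a.2) a'.2) fun b hb => ?_
    have e1 : c ⁅(a : G), b⁆ = c ⁅(a' : G), b⁆ := DFunLike.congr_fun (congrArg Subtype.val e) ⟨b, hb⟩
    have e2 := cinj _ (h2 _ a.2 _ hb) _ (h2 _ a'.2 _ hb) e1
    simp only [commutatorElement_def, mul_left_inj] at e2
    calc (a : G)⁻¹ * a' * b = (a : G)⁻¹ * (a' * b * (a' : G)⁻¹) * a' := by group
      _ = _ := by rw [← e2]; group

theorem linB1_log (hZ : IsCyclic (center G)) {p : ℕ} (hp : p.Prime) : ∃ l : G → ZMod p,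
    (∀ a ∈ center G, ∀ b ∈ center G, a ^ p = 1 → b ^ p = 1 → l (a * b) = l a + l b) ∧
    ∀ a ∈ center G, a ^ p = 1 → (l a = 0 ↔ a = 1) := by
  obtain ⟨c, cone, cmul, cinj⟩ := linB1_char hZ
  have : NeZero p := ⟨hp.ne_zero⟩
  have hζ := Complex.isPrimitiveRoot_exp p hp.ne_zero
  have hψ := AddChar.zmodChar_primitive_of_primitive_root p hζ
  have ψ1 := fun a => hψ.zmod_char_eq_one_iff p a
  have cpow : ∀ a ∈ center G, ∀ n : ℕ, c (a ^ n) = c a ^ n := fun a ha n => by
    induction n with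
    | zero => simp [cone]
    | succ n ih => rw [pow_succ, cmul _ (pow_mem ha n) _ ha, ih, pow_succ]
  have ex : ∀ a ∈ center G, a ^ p = 1 → ∃ i : ZMod p, AddChar.zmodChar p hζ.pow_eq_one i = c a :=
    fun a ha h => by
      obtain ⟨i, -, hi⟩ := hζ.eq_pow_of_pow_eq_one (ξ := c a) (by rw [← cpow a ha, h, cone])
      exact ⟨i, by rw [AddChar.zmodChar_apply', hi]⟩
  choose! l hl using ex
  refine ⟨l, fun a ha b hb a1 b1 => AddChar.injective_iff.2 (fun x hx => (ψ1 x).1 hx) ?_, fun a ha a1 => ?_⟩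
  · rw [AddChar.map_add_eq_mul, hl a ha a1, hl b hb b1, hl _ (mul_mem ha hb) (by
      rw [(show Commute a b from mem_center_iff.1 hb a).mul_pow, a1, b1, one_mul]), cmul a ha b hb]
  · rw [← ψ1, hl a ha a1]
    exact ⟨fun e => cinj a ha 1 (one_mem _) (e.trans cone.symm), fun e => by rw [e, cone]⟩

theorem linB1_max {A : Subgroup G} (hA : center G ≤ A) : ∃ B : Subgroup G, center G ≤ B ∧ B ≤ A ∧
    (∀ a ∈ B, ∀ b ∈ B, a * b = b * a) ∧ ∀ a ∈ A, (∀ b ∈ B, a * b = b * a) → a ∈ B := by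
  obtain ⟨B, ⟨h1, h2, h3⟩, hmax⟩ := (Set.toFinite {B : Subgroup G | center G ≤ B ∧ B ≤ A ∧
    ∀ a ∈ B, ∀ b ∈ B, a * b = b * a}).exists_maximal
    ⟨center G, le_rfl, hA, fun a _ b hb => mem_center_iff.1 hb a⟩
  refine ⟨B, h1, h2, h3, fun g hg hc => ?_⟩
  have k1 : B ⊔ zpowers g ≤ centralizer (B : Set G) :=
    sup_le (fun x hx y hy => h3 y hy x hx) (zpowers_le.2 fun y hy => (hc y hy).symm)
  have k2 : B ⊔ zpowers g ≤ centralizer ({g} : Set G) :=
    sup_le (fun x hx => mem_centralizer_singleton_iff.2 (hc x hx).symm)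
      (zpowers_le.2 (mem_centralizer_singleton_iff.2 rfl))
  have k3 : B ⊔ zpowers g ≤ centralizer ((B ⊔ zpowers g : Subgroup G) : Set G) :=
    sup_le (le_centralizer_iff.1 k1) (zpowers_le.2 fun y hy => mem_centralizer_singleton_iff.1 (k2 hy))
  exact hmax (y := B ⊔ zpowers g) ⟨h1.trans le_sup_left, sup_le h2 (zpowers_le.2 hg),
    fun x hx y hy => k3 hy x hx⟩ le_sup_left (mem_sup_right (mem_zpowers g))

end

/-- notes/KR.md, section LinB1 -/
theorem linB1 {G : Type*} [Group G] [Finite G] (hG : Group.IsSolvable G) (hZ : IsCyclic (center G))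
    (hab : ∀ A : Subgroup G, A.Normal → (∀ a ∈ A, ∀ b ∈ A, a * b = b * a) → A ≤ center G)
    (hne : center G ≠ ⊤) :
    ∃ (A B : Subgroup G) (e : ℕ) (K : Subgroup G) (_ : K.Normal), A.Normal ∧ Ext A B e ∧
      K ≤ A ⊔ centralizer (A : Set G) ∧ Small (3 ^ (e - 1)) (G ⧸ K) := by
  classical
  have hnt : Nontrivial (G ⧸ center G) := QuotientGroup.nontrivial_iff.2 hne
  obtain ⟨M, p, hp, hMn, hM0, hMc, -, hMp, hmin⟩ := H2.exists_minimal_normal_of_solvable (G := G ⧸ center G)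
  let A : Subgroup G := M.comap (QuotientGroup.mk' (center G))
  have hAn : A.Normal := inferInstance
  have mA : ∀ {a : G}, a ∈ A ↔ (a : G ⧸ center G) ∈ M := Iff.rfl
  have ZA : center G ≤ A := fun z hz => mA.2 (by rw [(QuotientGroup.eq_one_iff z).2 hz]; exact one_mem _)
  let φ : G →* MulAut M := (MulAut.conjNormal (H := M)).comp (QuotientGroup.mk' (center G))
  have mK : ∀ {g : G}, g ∈ φ.ker ↔ ∀ a ∈ A, ⁅g, a⁆ ∈ center G := fun {g} => by
    have key : ∀ a (ha : a ∈ A), φ g ⟨a, ha⟩ = ⟨a, ha⟩ ↔ ⁅g, a⁆ ∈ center G := fun a ha => by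
      rw [← QuotientGroup.eq_one_iff, Subtype.ext_iff, commutatorElement_def, QuotientGroup.mk_mul,
        QuotientGroup.mk_inv, mul_inv_eq_one]
      rfl
    rw [MonoidHom.mem_ker]
    refine ⟨fun h a ha => (key a ha).1 (by rw [h]; rfl), fun h => MulEquiv.ext fun ⟨x, hx⟩ => ?_⟩
    obtain ⟨a, rfl⟩ := QuotientGroup.mk_surjective x
    exact (key a hx).2 (h a hx)
  have cA : ∀ a ∈ A, ∀ b ∈ A, ⁅a, b⁆ ∈ center G := fun a ha b hb => by
    rw [← QuotientGroup.eq_one_iff, commutatorElement_def, QuotientGroup.mk_mul, QuotientGroup.mk_mul,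
      QuotientGroup.mk_mul, QuotientGroup.mk_inv, QuotientGroup.mk_inv, setLike_mul_comm (mA.1 ha) (mA.1 hb)]
    group
  have pA : ∀ a ∈ A, ∀ b ∈ A, ⁅a, b⁆ ^ p = 1 := fun a ha b hb => by
    rw [← linB1_pow (cA a ha b hb), linB1_z ((QuotientGroup.eq_one_iff _).1 (by
      rw [QuotientGroup.mk_pow]; exact hMp _ hb))]
  have zA : ∀ a ∈ A, (∀ b ∈ A, a * b = b * a) → a ∈ center G := fun a ha h =>
    hab (A ⊓ centralizer (A : Set G)) inferInstance (fun x hx y hy => hy.2 x hx.1)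
      ⟨ha, fun b hb => (h b hb).symm⟩
  obtain ⟨B, ZB, BA, Bab, Bself⟩ := linB1_max ZA
  have i1 : B.relIndex A ≤ (center G).relIndex B := linB1_idx hZ le_rfl
    (fun a ha b hb => cA a (BA ha) b (BA hb)) (fun a ha b hb => cA a ha b (BA hb))
    (fun a _ b hb => mem_center_iff.1 hb a) Bself
  have i2 : (center G).relIndex B ≤ B.relIndex A := linB1_idx hZ ZB cA (fun a ha => cA a (BA ha)) Bab
    fun a ha => zA a (BA ha)
  have i3 := le_antisymm i1 i2
  have cB : Nat.card B = (center G).relIndex B * Nat.card (center G) := by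
    rw [← Nat.card_congr (subgroupOfEquivOfLe ZB).toEquiv]
    exact (((center G).subgroupOf B).index_mul_card).symm
  have cA' : Nat.card A = (center G).relIndex B * Nat.card B := by
    rw [← i3, ← Nat.card_congr (subgroupOfEquivOfLe BA).toEquiv]
    exact ((B.subgroupOf A).index_mul_card).symm
  have cM : Nat.card M = (center G).relIndex B ^ 2 := by
    have h1 := relIndex_mul_relIndex _ _ _ ZB BA
    have h2 : (center G).relIndex A = Nat.card M := by
      have := relIndex_comap (⊥ : Subgroup (G ⧸ center G)) (QuotientGroup.mk' (center G)) A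
      rwa [MonoidHom.comap_bot, QuotientGroup.ker_mk', map_comap_eq_self_of_surjective
        (QuotientGroup.mk'_surjective _), relIndex_bot_left] at this
    rw [← h2, ← h1, i3, pow_two]
  have e2 : 2 ≤ (center G).relIndex B := by
    have h1 : 1 < Nat.card M := (one_lt_card_iff_ne_bot _).2 hM0
    rw [cM] at h1
    by_contra h
    interval_cases (center G).relIndex B <;> omega
  refine ⟨A, B, _, φ.ker, inferInstance, hAn, ⟨e2, ZB, BA, cA, Bab, Bself, cB, cA'⟩, ?_, ?_⟩
  · have j1 : (centralizer (A : Set G)).relIndex φ.ker ≤ (center G).relIndex A := linB1_idx hZ le_rfl cA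
      (fun a ha => mK.1 ha) (fun a _ b hb => mem_center_iff.1 hb a) fun a _ h b hb => (h b hb).symm
    have j2 : (centralizer (A : Set G)).relIndex A = (center G).relIndex A := by
      rw [← inf_relIndex_right, ← inf_relIndex_right (center G)]
      congr 1
      exact le_antisymm (fun x hx => ⟨zA x hx.2 fun b hb => (hx.1 b hb).symm, hx.2⟩)
        fun x hx => ⟨center_le_centralizer _ hx.1, hx.2⟩
    have j3 := relIndex_mul_relIndex (centralizer (A : Set G)) (A ⊔ centralizer (A : Set G))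
      (φ.ker ⊔ centralizer (A : Set G)) le_sup_right (sup_le_sup_right (fun a ha => mK.2 (cA a ha)) _)
    rw [relIndex_sup_right, relIndex_sup_right, j2] at j3
    have j4 : (center G).relIndex A ≠ 0 := index_ne_zero_of_finite
    have j5 : (A ⊔ centralizer (A : Set G)).relIndex (φ.ker ⊔ centralizer (A : Set G)) ≠ 0 :=
      index_ne_zero_of_finite
    have j6 : (A ⊔ centralizer (A : Set G)).relIndex (φ.ker ⊔ centralizer (A : Set G)) = 1 := by
      by_contra h
      have := Nat.mul_le_mul_left ((center G).relIndex A) (show 2 ≤ (A ⊔ centralizer (A : Set G)).relIndex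
        (φ.ker ⊔ centralizer (A : Set G)) by omega)
      omega
    exact le_sup_left.trans (relIndex_eq_one.1 j6)
  · obtain ⟨l, ladd, l0⟩ := linB1_log hZ hp
    let s : Additive M → G := fun w => (w.toMul : G ⧸ center G).out
    have sA : ∀ w, s w ∈ A := fun w => mA.2 (by rw [QuotientGroup.out_eq']; exact w.toMul.2)
    have sm : ∀ w, (s w : G ⧸ center G) = w.toMul := fun w => QuotientGroup.out_eq' _
    have sadd : ∀ v w, (s v * s w)⁻¹ * s (v + w) ∈ center G := fun v w =>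
      QuotientGroup.eq.1 (by rw [QuotientGroup.mk_mul, sm, sm, sm]; rfl)
    have one' : ∀ a : G, a⁻¹ * a ∈ center G := fun a => by rw [inv_mul_cancel]; exact one_mem _
    let β : Additive M →+ Additive M →+ ZMod p := AddMonoidHom.mk' (fun v => AddMonoidHom.mk'
      (fun w => l ⁅s v, s w⁆) fun w w' => by
        rw [linB1_congr (one' _) (sadd w w'), linB1_r (cA _ (sA v) _ (sA w')),
          ladd _ (cA _ (sA v) _ (sA w)) _ (cA _ (sA v) _ (sA w')) (pA _ (sA v) _ (sA w)) (pA _ (sA v) _ (sA w'))])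
      fun v v' => AddMonoidHom.ext fun w => by
        change l ⁅s (v + v'), s w⁆ = l ⁅s v, s w⁆ + l ⁅s v', s w⁆
        rw [linB1_congr (sadd v v') (one' _), linB1_l (cA _ (sA v') _ (sA w)),
          ladd _ (cA _ (sA v) _ (sA w)) _ (cA _ (sA v') _ (sA w)) (pA _ (sA v) _ (sA w)) (pA _ (sA v') _ (sA w))]
    have hβ : ∀ v w, β v w = l ⁅s v, s w⁆ := fun _ _ => rfl
    letI : DistribMulAction (G ⧸ φ.ker) (Additive M) :=
      { smul := fun γ w => Additive.ofMul (QuotientGroup.kerLift φ γ w.toMul)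
        one_smul := fun w => by
          change Additive.ofMul (QuotientGroup.kerLift φ 1 w.toMul) = w
          rw [map_one]; rfl
        mul_smul := fun γ δ w => by
          change Additive.ofMul (QuotientGroup.kerLift φ (γ * δ) w.toMul) = _
          rw [map_mul]; rfl
        smul_zero := fun γ => congrArg Additive.ofMul (map_one (QuotientGroup.kerLift φ γ))
        smul_add := fun γ v w => congrArg Additive.ofMul (map_mul (QuotientGroup.kerLift φ γ) v.toMul w.toMul) }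
    have act : ∀ (g : G) (w : Additive M), (((g : G ⧸ φ.ker) • w).toMul : G ⧸ center G) =
        g * (w.toMul : G ⧸ center G) * (g : G ⧸ center G)⁻¹ := fun _ _ => rfl
    refine symAll (p := p) (W := Additive M) (β := β) ⟨hp, inferInstance, fun γ h => ?_, fun U hU => ?_,
      fun w => ?_, fun γ v w => ?_, fun v h => ?_, fun v => ?_⟩ cM
    · exact QuotientGroup.kerLift_injective φ (by
        rw [map_one]; exact MulEquiv.ext fun x => h (Additive.ofMul x))
    · let L : Subgroup (G ⧸ center G) := (AddSubgroup.toSubgroup' U).map M.subtype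
      have hL : L.Normal := ⟨by
        rintro _ ⟨x, hx, rfl⟩ y
        obtain ⟨g, rfl⟩ := QuotientGroup.mk_surjective y
        exact ⟨((g : G ⧸ φ.ker) • Additive.ofMul x).toMul, hU (g : G ⧸ φ.ker) (Additive.ofMul x) hx, act g _⟩⟩
      refine (hmin L hL (map_subtype_le _)).imp (fun e => eq_bot_iff.2 fun x hx => ?_)
        fun e => eq_top_iff.2 fun x _ => ?_
      · have : (x.toMul : G ⧸ center G) ∈ L := ⟨x.toMul, hx, rfl⟩
        rw [e, mem_bot] at this
        exact (Subtype.ext this : x.toMul = 1)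
      · obtain ⟨y, hy, e'⟩ : (x.toMul : G ⧸ center G) ∈ L := e.ge x.toMul.2
        obtain rfl : y = x.toMul := Subtype.ext e'
        exact hy
    · exact (Subtype.ext (hMp _ w.toMul.2) : w.toMul ^ p = 1)
    · obtain ⟨g, rfl⟩ := QuotientGroup.mk_surjective γ
      have k : ∀ w, (g * s w * g⁻¹)⁻¹ * s ((g : G ⧸ φ.ker) • w) ∈ center G := fun w =>
        QuotientGroup.eq.1 (by rw [sm, act, QuotientGroup.mk_mul, QuotientGroup.mk_mul, sm]; rfl)
      rw [hβ, hβ, linB1_congr (k v) (k w), ← conjugate_commutatorElement,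
        mem_center_iff.1 (cA _ (sA v) _ (sA w)), mul_inv_cancel_right]
    · have : s v ∈ center G := zA _ (sA v) fun b hb => by
        have e := h (Additive.ofMul ⟨b, hb⟩)
        rw [hβ, linB1_congr (one' _) (b := b) (QuotientGroup.eq.1 (by rw [sm]; rfl)),
          l0 _ (cA _ (sA v) _ hb) (pA _ (sA v) _ hb)] at e
        exact commutatorElement_eq_one_iff_mul_comm.1 e
      exact (Subtype.ext ((sm v).symm.trans ((QuotientGroup.eq_one_iff _).2 this)) : v.toMul = 1)
    · rw [hβ, commutatorElement_self, l0 _ (one_mem _) (one_pow _)]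

end Cfsg.Agent.KR
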