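import Cfsg.Agent.KR.LinA
import Cfsg.Agent.KR.LinB1
import Cfsg.Agent.KR.LinB2

set_option autoImplicit false

open Subgroup
open scoped commutatorElement

namespace Cfsg.Agent.KR

universe u

theorem main_cyclic {G : Type u} [Group G] [Finite G] {V : Type} [AddCommGroup V] [Module ℂ V]
    (ρ : Representation ℂ G V) (hρ : Function.Injective ρ) (Z : Subgroup G)
    (hZ : ∀ a ∈ Z, ∃ c : ℂ, ∀ x, ρ a x = c • x) : IsCyclic Z := by
  rcases subsingleton_or_nontrivial V with hV | hV
  · have : Subsingleton G := ⟨fun a b => hρ (LinearMap.ext fun x => Subsingleton.elim _ _)⟩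
    infer_instance
  obtain ⟨v, hv⟩ := exists_ne (0 : V)
  choose c hc using fun a : Z => hZ a a.2
  have hinj : ∀ s t : ℂ, s • v = t • v → s = t := fun s t h => smul_left_injective ℂ hv h
  let f : Z →* ℂ :=
    { toFun := c
      map_one' := hinj _ _ (by rw [← hc]; simp)
      map_mul' := fun a b => hinj _ _ (by
        rw [← hc, coe_mul, map_mul, Module.End.mul_apply, hc, hc, mul_smul]) }
  refine isCyclic_of_injective_ringHom f fun a b h => Subtype.ext (hρ (LinearMap.ext fun x => ?_))
  rw [hc, hc]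
  exact congrArg (· • x) h

theorem main_B {r : ℕ} (IH : ∀ s < r, Core.{u} s) {G : Type u} [Group G] [Finite G] {V : Type}
    [AddCommGroup V] [Module ℂ V] [FiniteDimensional ℂ V] (ρ : Representation ℂ G V)
    (hG : Group.IsSolvable G) (hρ : Function.Injective ρ) (hr : Module.finrank ℂ V = r)
    (hs : ∀ A : Subgroup G, A.Normal → (∀ a ∈ A, ∀ b ∈ A, a * b = b * a) →
      ∀ a ∈ A, ∃ c : ℂ, ∀ x, ρ a x = c • x) :
    Small (3 ^ (r - 1)) (G ⧸ fittingSubgroup G) := by
  have hZ := hs (center G) inferInstance fun a ha b _ => (mem_center_iff.1 ha b).symm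
  have hab : ∀ A : Subgroup G, A.Normal → (∀ a ∈ A, ∀ b ∈ A, a * b = b * a) → A ≤ center G :=
    fun A h1 h2 a ha => mem_center_iff.2 fun g => hρ (LinearMap.ext fun x => by
      obtain ⟨c, hc⟩ := hs A h1 h2 a ha
      simp [hc])
  have hZF : center G ≤ fittingSubgroup G := le_fitting_of_lcs inferInstance (n := 1)
    fun x hx => by
      have : (center G).lowerCentralSeries 1 ≤ ⊥ := by
        rw [Subgroup.lowerCentralSeries_succ, Subgroup.lowerCentralSeries_zero, commutator_le]
        intro g hg a _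
        exact mem_bot.2 (commutatorElement_eq_one_iff_mul_comm.2 (mem_center_iff.1 hg a).symm)
      exact this hx
  by_cases hne : center G = ⊤
  · have hF : fittingSubgroup G = ⊤ := eq_top_iff.2 (hne ▸ hZF)
    have : Subsingleton (G ⧸ fittingSubgroup G) := by
      refine ⟨fun a b => ?_⟩
      obtain ⟨a, rfl⟩ := QuotientGroup.mk_surjective a
      obtain ⟨b, rfl⟩ := QuotientGroup.mk_surjective b
      exact QuotientGroup.eq.2 (hF ▸ mem_top _)
    exact Small.of_card ((Finite.card_le_one_iff_subsingleton.2 this).trans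
      (Nat.one_le_pow _ _ (by norm_num)))
  obtain ⟨A, B, e, K, hK, hA, hE, hKA, hsm⟩ := linB1 hG (main_cyclic ρ hρ _ hZ) hab hne
  obtain ⟨U, hU, hUf, hUd⟩ := linB2 ρ hρ hZ hE
  let C := centralizer (A : Set G)
  have hC : C.Normal := normal_centralizer
  let σ : Representation ℂ C U :=
    Representation.subrepresentation (ρ.comp C.subtype) U fun g x hx => hU g g.2 x hx
  have hσ : Function.Injective σ := (injective_iff_map_eq_one σ).2 fun g hg =>
    Subtype.ext (hUf g g.2 fun x hx => congrArg Subtype.val (LinearMap.congr_fun hg ⟨x, hx⟩))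
  have h2 := hE.two
  have hm : 0 < Module.finrank ℂ U := by
    rw [Nat.pos_iff_ne_zero, Ne, Submodule.finrank_eq_zero]
    rintro rfl
    refine hne ?_
    have hZ1 : ∀ z ∈ center G, z = 1 := fun z hz => hUf z
      (mem_centralizer_iff.2 fun a _ => mem_center_iff.1 hz a) fun x hx => by
        rw [Submodule.mem_bot] at hx; simp [hx]
    have hAZ : A ≤ center G := hab A hA fun a ha b hb =>
      commutatorElement_eq_one_iff_mul_comm.1 (hZ1 _ (hE.comm a ha b hb))
    have h3 := card_le_of_le (hE.BA.trans hAZ)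
    have h4 : 0 < Nat.card (center G) := Nat.card_pos
    rw [hE.cardB] at h3
    nlinarith
  rw [hr] at hUd
  have hlt : Module.finrank ℂ U < r := by nlinarith
  have hCs := IH _ hlt C U σ inferInstance hσ rfl
  have hAF : A ≤ fittingSubgroup G := le_fitting_of_lcs hA (n := 2) fun x hx => by
    have : A.lowerCentralSeries 2 ≤ ⊥ := by
      rw [Subgroup.lowerCentralSeries_succ, Subgroup.lowerCentralSeries_succ,
        Subgroup.lowerCentralSeries_zero, commutator_le]
      intro g hg a _
      have hg' : g ∈ center G := (commutator_le.2 fun a ha b hb => hE.comm a ha b hb) hg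
      exact mem_bot.2 (commutatorElement_eq_one_iff_mul_comm.2 (mem_center_iff.1 hg' a).symm)
    exact this hx
  have hCF : (fittingSubgroup C).map C.subtype ≤ fittingSubgroup G :=
    H44.fittingOf_le_of_subnormal hC.isSubnormal
  -- the image of `A ⊔ C` in `G/F` is a quotient of `C/F(C)`
  let f : C →* (A ⊔ C : Subgroup G) ⧸ (fittingSubgroup G).subgroupOf (A ⊔ C) :=
    (QuotientGroup.mk' _).comp (inclusion le_sup_right)
  have hf : Function.Surjective f := fun y => by
    obtain ⟨⟨g, hg⟩, rfl⟩ := QuotientGroup.mk_surjective y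
    have hg' : g ∈ ((C ⊔ A : Subgroup G) : Set G) := by rwa [sup_comm]
    rw [mul_normal] at hg'
    obtain ⟨c, hc, a, ha, rfl⟩ := hg'
    refine ⟨⟨c, hc⟩, QuotientGroup.eq.2 ?_⟩
    simpa [mem_subgroupOf] using hAF ha
  have hq : Small (3 ^ (Module.finrank ℂ U - 1))
      ((A ⊔ C : Subgroup G) ⧸ (fittingSubgroup G).subgroupOf (A ⊔ C)) := by
    refine hCs.of_surjective (QuotientGroup.lift _ f fun x hx => ?_) fun y => ?_
    · exact (QuotientGroup.eq_one_iff _).2 (hCF (mem_map_of_mem _ hx))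
    · obtain ⟨c, rfl⟩ := hf y
      exact ⟨c, rfl⟩
  refine (Small.quot_mul _ (A ⊔ C) (Small.quot_mono hKA hsm) hq).mono ?_
  rw [← pow_add]
  refine Nat.pow_le_pow_right (by norm_num) ?_
  obtain ⟨a, rfl⟩ : ∃ a, e = a + 1 := ⟨e - 1, by omega⟩
  obtain ⟨b, hb⟩ : ∃ b, Module.finrank ℂ U = b + 1 := ⟨Module.finrank ℂ U - 1, by omega⟩
  rw [hb] at hUd ⊢
  have : a + b + 1 ≤ r := by nlinarith [Nat.zero_le (a * b)]
  omega

/-- notes/KR.md, section Main -/
theorem core (r : ℕ) : Core.{u} r := by
  induction r using Nat.strong_induction_on with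
  | _ r IH =>
  intro G _ _ V _ _ _ ρ hG hρ hr
  by_cases hs : ∀ A : Subgroup G, A.Normal → (∀ a ∈ A, ∀ b ∈ A, a * b = b * a) →
      ∀ a ∈ A, ∃ c : ℂ, ∀ x, ρ a x = c • x
  · exact main_B IH ρ hG hρ hr hs
  · obtain ⟨A, hA⟩ := not_forall.1 hs
    obtain ⟨h1, hA⟩ := Classical.not_imp.1 hA
    obtain ⟨h2, h3⟩ := Classical.not_imp.1 hA
    exact linA IH ρ hG hρ hr A h2 h3

end Cfsg.Agent.KR
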