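import Cfsg.Agent.KR.Defs2
import Cfsg.Agent.H31.NoFour
import Cfsg.Agent.H18.SmallCent
import Cfsg.Agent.S0126
import Cfsg.Agent.H3.NilpotentHall

set_option autoImplicit false

open Subgroup
open scoped commutatorElement

namespace Cfsg.Agent.KR

universe u

theorem NilCyc.compl {F : Type*} [Group F] [Finite F] [Group.IsNilpotent F] {q : ℕ} [Fact q.Prime] (P : Sylow q F) :
    ∃ K : Subgroup F, IsComplement' (P : Subgroup F) K ∧ ∀ a ∈ (P : Subgroup F), ∀ k ∈ K, Commute a k := by
  have hc : (Nat.card (P : Subgroup F)).Coprime (P : Subgroup F).index := by simpa using P.card_coprime_index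
  obtain ⟨K, hK⟩ := exists_right_complement'_of_coprime hc
  rw [hK.symm.index_eq_card] at hc
  exact ⟨K, hK, fun a ha k hk => H3.commute_of_coprime_orderOf a k
    ((hc.coprime_dvd_left (orderOf_dvd_natCard _ ha)).coprime_dvd_right (orderOf_dvd_natCard _ hk))⟩

theorem NilCyc.syl {F : Type*} [Group F] [Finite F] [Group.IsNilpotent F]
    (hab : ∀ A : Subgroup F, A.Normal → IsMulCommutative A → IsCyclic A) {q : ℕ} [Fact q.Prime] (P : Sylow q F)
    (A : Subgroup (P : Subgroup F)) (hA : A.Normal) (hc : IsMulCommutative A) : IsCyclic A := by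
  obtain ⟨K, hK, c⟩ := NilCyc.compl P
  have := hab (A.map (P : Subgroup F).subtype) ⟨by
    rintro _ ⟨a, ha, rfl⟩ g
    obtain ⟨⟨x, k⟩, rfl⟩ := (hK.existsUnique g).exists
    refine ⟨_, hA.conj_mem a ha x, ?_⟩
    have := (c a a.2 k k.2).eq
    simp only [coe_subtype, coe_mul, coe_inv, mul_inv_rev]
    rw [mul_assoc x.1 k, ← this]; group⟩ inferInstance
  exact isCyclic_of_surjective _ (equivMapOfInjective A _ (P : Subgroup F).subtype_injective).symm.surjective

/-- notes/KR.md, section NilCyc -/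
theorem nilCyc {F : Type*} [Group F] [Finite F] (hF : Group.IsNilpotent F)
    (hab : ∀ A : Subgroup F, A.Normal → IsMulCommutative A → IsCyclic A) :
    ∃ C : Subgroup F, IsCyclic C ∧ C.index ≤ 2 := by
  obtain ⟨S⟩ : Nonempty (Sylow 2 F) := inferInstance
  obtain ⟨K, hK, c⟩ := NilCyc.compl S
  have hc : (Nat.card (S : Subgroup F)).Coprime (Nat.card K) := by
    simpa [hK.symm.index_eq_card] using S.card_coprime_index
  have h2 : ¬ 2 ∣ Nat.card K := hK.symm.index_eq_card ▸ S.not_dvd_index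
  have : IsZGroup K := ⟨fun q hq Q => by
    have := Fact.mk hq
    obtain ⟨P, hP⟩ := (Q.isPGroup'.map K.subtype).exists_le_sylow
    by_cases h : q = 2
    · subst h
      obtain ⟨k, hk⟩ := Q.isPGroup'.exists_card_eq
      have h0 : k = 0 := by_contra fun e => h2 ((dvd_pow_self 2 e).trans (hk ▸ card_subgroup_dvd_card _))
      rw [h0] at hk
      rw [eq_bot_of_card_eq _ hk]; exact Bot.isCyclic
    have : IsCyclic (P : Subgroup F) := by_contra fun hn => by
      obtain ⟨A, h1, h2, h3⟩ := S0126.result h P.isPGroup' hn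
      obtain ⟨g, hg⟩ := (NilCyc.syl hab P A h1 h2.1).exists_ofOrder_eq_natCard
      have h4 := Nat.le_of_dvd hq.pos (h3 ▸ hg ▸ orderOf_dvd_of_pow_eq_one
        (Subtype.ext (h2.2 g g.2) : g ^ q = 1))
      have := hq.two_le
      nlinarith
    have := isCyclic_of_le hP
    exact isCyclic_of_surjective _ (equivMapOfInjective _ _ K.subtype_injective).symm.surjective⟩
  obtain ⟨y, hy⟩ := IsCyclic.exists_ofOrder_eq_natCard (α := K)
  obtain ⟨x, hx⟩ : ∃ x : (S : Subgroup F), Nat.card (S : Subgroup F) ≤ 2 * orderOf x := by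
    by_cases h : IsCyclic (S : Subgroup F)
    · obtain ⟨x, hx⟩ := h.exists_ofOrder_eq_natCard
      exact ⟨x, by omega⟩
    obtain ⟨w, hw⟩ := (H31.cyclic_or_small_cent S.isPGroup' (NilCyc.syl hab S)).resolve_left h
    rcases H18.two_group_cases S.isPGroup' w hw with h' | ⟨n, -, ⟨e⟩⟩ | ⟨n, ⟨e⟩⟩ | ⟨n, -, h1, x, -, h2, -⟩
    · exact absurd h' h
    · exact ⟨e.symm (.r 1), by
        rw [e.symm.orderOf_eq, DihedralGroup.orderOf_r_one, Nat.card_congr e.toEquiv, DihedralGroup.nat_card]⟩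
    · exact ⟨e.symm (.a 1), by
        rw [e.symm.orderOf_eq, QuaternionGroup.orderOf_a_one, Nat.card_congr e.toEquiv, Nat.card_eq_fintype_card,
          QuaternionGroup.card]; omega⟩
    · exact ⟨x, by rw [h1, h2]; omega⟩
  refine ⟨zpowers (x.1 * y.1), inferInstance, ?_⟩
  have h3 := (zpowers (x.1 * y.1)).card_mul_index
  rw [Nat.card_zpowers, (c x x.2 y y.2).orderOf_mul_eq_mul_orderOf_of_coprime
    ((hc.coprime_dvd_left (orderOf_dvd_natCard _ x.2)).coprime_dvd_right (orderOf_dvd_natCard _ y.2)),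
    ← hK.card_mul_card, orderOf_coe, orderOf_coe, hy] at h3
  have h4 : 0 < orderOf x * Nat.card K := Nat.mul_pos (orderOf_pos x) Nat.card_pos
  refine Nat.le_of_mul_le_mul_left (h3.le.trans ?_) h4
  nlinarith

end Cfsg.Agent.KR
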