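import Cfsg.Agent.KR.Defs2
import Cfsg.Agent.H24.FpfBasic

set_option autoImplicit false

open Subgroup
open scoped commutatorElement Pointwise

namespace Cfsg.Agent.KR

universe u

/-- notes/KR.md, section NilImp -/
theorem nilImp {p : ℕ} [Fact p.Prime] {F : Type u} [Group F] [Finite F] {V : Type*} [AddCommGroup V]
    [Module (ZMod p) V] [Finite V] (ρ : Representation (ZMod p) F V) (hF : Group.IsNilpotent F)
    (hp : ¬ p ∣ Nat.card F) (hρ : Function.Injective ρ) (hirr : Irred ρ) (A : Subgroup F)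
    (hA : A.Normal) (hc : IsMulCommutative A) (hn : ¬ IsCyclic A) :
    ∃ (ι : Type u) (_ : Fintype ι) (_ : MulAction F ι) (π : ι → Module.End (ZMod p) V),
      Imp ρ ι π ∧ ∀ i, LinearMap.range (π i) ≠ ⊤ := by
  classical
  have rm : ∀ (a c : F) x, ρ (a * c) x = ρ a (ρ c x) := fun a c x => by rw [map_mul]; rfl
  let P : Subgroup F → Prop := fun B => B ≤ A ∧ ∃ v : V, v ≠ 0 ∧ ∀ b ∈ B, ρ b v = v
  have hP : ∀ (g : F) B, P B → P (MulAut.conj g • B) := fun g B ⟨h1, v, h2, h3⟩ =>
    ⟨by rintro _ ⟨b, hb, rfl⟩; exact hA.conj_mem b (h1 hb) g, ρ g v,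
      fun e => h2 (by simpa [← rm] using congrArg (ρ g⁻¹) e), by
      rintro _ ⟨b, hb, rfl⟩
      change ρ (g * b * g⁻¹) _ = _
      rw [← rm, inv_mul_cancel_right, rm, h3 b hb]⟩
  let _ : MulAction F (Subgroup F) := MulAction.compHom _ (MulAut.conj : F →* MulAut F)
  let S : SubMulAction F (Subgroup F) :=
    { carrier := {B | Maximal P B}
      smul_mem' := fun g B hB => ⟨hP g B hB.1, fun B' h1 h2 => by
        have := hB.2 (hP g⁻¹ B' h1) (by rw [map_inv]; exact pointwise_smul_subset_iff.1 h2)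
        rw [map_inv] at this
        exact subset_pointwise_smul_iff.2 this⟩ }
  have := Fintype.ofFinite S
  have : ∀ B : Subgroup F, Fintype B := fun B => Fintype.ofFinite B
  let π : S → Module.End (ZMod p) V := fun B => (Nat.card B.1 : ZMod p)⁻¹ • ∑ b : B.1, ρ b
  have h1 : ∀ (B : S), ∀ b ∈ B.1, ∀ x, ρ b (π B x) = π B x := fun B b hb x => by
    simp only [π, LinearMap.smul_apply, LinearMap.sum_apply, map_smul, map_sum, ← rm]
    congr 1
    exact Fintype.sum_equiv (Equiv.mulLeft (⟨b, hb⟩ : B.1)) _ _ fun _ => rfl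
  have h2 : ∀ (B : S) x, (∀ b ∈ B.1, ρ b x = x) → π B x = x := fun B x h => by
    simp only [π, LinearMap.smul_apply, LinearMap.sum_apply]
    rw [Finset.sum_congr rfl fun (b : B.1) _ => h b b.2, Finset.sum_const, Finset.card_univ,
      ← Nat.card_eq_fintype_card, ← Nat.cast_smul_eq_nsmul (ZMod p), smul_smul, inv_mul_cancel₀, one_smul]
    exact fun e => hp (((ZMod.natCast_eq_zero_iff _ _).1 e).trans (card_subgroup_dvd_card _))
  have h3 : ∀ (g : F) (B : S), ρ g * π B = π (g • B) * ρ g := fun g B => by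
    have e := equivSMul (MulAut.conj g) B.1
    simp only [π, mul_smul_comm, smul_mul_assoc, Finset.mul_sum, Finset.sum_mul, ← map_mul]
    congr 1
    · exact congrArg (fun n : ℕ => (n : ZMod p)⁻¹) (Nat.card_congr e.toEquiv)
    · exact Fintype.sum_equiv (equivSMul (MulAut.conj g) B.1).toEquiv _ _ fun b =>
        congrArg ρ (inv_mul_cancel_right _ g).symm
  have h4 : ∀ i j : S, i ≠ j → π i * π j = 0 := fun i j e => LinearMap.ext fun x => by
    by_contra h
    have hP' : P (i.1 ⊔ j.1) := ⟨sup_le i.2.1.1 j.2.1.1, _, h, fun b hb =>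
      (sup_le (fun b hb => h1 i b hb _) (fun b hb => by
        have e1 : b • i = i := Subtype.ext (mem_normalizer_iff_map_conj_eq.1 (centralizer_le_normalizer _
          fun a ha => congrArg Subtype.val (hc.is_comm.comm ⟨a, i.2.1.1 ha⟩ ⟨b, j.2.1.1 hb⟩)))
        have := LinearMap.congr_fun (h3 b i) (π j x)
        rw [e1] at this
        exact this.trans (congrArg (π i) (h1 j b hb x))) :
        i.1 ⊔ j.1 ≤ (MulAction.stabilizer (Module.End (ZMod p) V)ˣ ((π i * π j) x)).comap ρ.toHomUnits) hb⟩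
    exact e (Subtype.ext ((i.2.eq_of_le hP' le_sup_left).trans (j.2.eq_of_le hP' le_sup_right).symm))
  have h5 : ∀ (i : S) x, ∑ j, π j (π i x) = π i x := fun i x => by
    exact (Finset.sum_eq_single i (fun j _ e => LinearMap.congr_fun (h4 j i e) x) (by simp)).trans
      (h2 i _ fun b hb => h1 i b hb x)
  have : Nontrivial V := by
    by_contra e
    rw [not_nontrivial_iff_subsingleton] at e
    have := hρ.subsingleton
    exact hn inferInstance
  obtain ⟨a, v, a1, v1, hav⟩ : ∃ (a : A) (v : V), a ≠ 1 ∧ v ≠ 0 ∧ ρ a v = v := by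
    by_contra e
    let _ : DistribMulAction A V := DistribMulAction.compHom V (ρ.comp A.subtype)
    exact hn (H24.fpf_of_distrib (G := A) (V := V) fun g hg v hv =>
      by_contra fun h => e ⟨g, v, hg, h, hv⟩).isCyclic_of_comm
  have hz : P (zpowers a.1) := ⟨zpowers_le.2 a.2, v, v1, fun b hb =>
    (zpowers_le.2 hav : zpowers a.1 ≤ (MulAction.stabilizer (Module.End (ZMod p) V)ˣ v).comap ρ.toHomUnits) hb⟩
  refine ⟨S, inferInstance, inferInstance, π, ⟨LinearMap.ext fun x => ?_, h4, h3⟩, fun i e => ?_⟩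
  · obtain ⟨B, -, hB⟩ := Finite.exists_le_maximal hz
    obtain ⟨w, w1, hw⟩ := hB.1.2
    rcases hirr (LinearMap.eqLocus (∑ i, π i) 1) (fun g x hx => by
      have hx : ∑ i, π i x = x := by simpa [LinearMap.mem_eqLocus] using hx
      have : ∑ i, π i (ρ g x) = ρ g x := by
        conv_rhs => rw [← hx, map_sum]
        exact (Fintype.sum_equiv (MulAction.toPerm g) _ _ fun i => LinearMap.congr_fun (h3 g i) x).symm
      simpa [LinearMap.mem_eqLocus] using this) with h | h
    · refine absurd (h.le ?_) w1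
      have := h5 ⟨B, hB⟩ w
      rw [h2 ⟨B, hB⟩ w hw] at this
      simpa [LinearMap.mem_eqLocus] using this
    · exact h.ge trivial
  · have : i.1 = ⊥ := (eq_bot_iff_forall _).2 fun b hb => hρ (LinearMap.ext fun x => by
      obtain ⟨y, rfl⟩ := e.ge (Submodule.mem_top (x := x))
      simp [h1 i b hb])
    exact a1 (Subtype.ext ((this ▸ i.2.2 hz (this ▸ bot_le)) (mem_zpowers a.1)))

end Cfsg.Agent.KR
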