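import Cfsg.Agent.KR.Defs2

set_option autoImplicit false

open Subgroup
open scoped commutatorElement

namespace Cfsg.Agent.KR

universe u

theorem NilPrim.form {k V : Type*} [Field k] [AddCommGroup V] [Module k V] [FiniteDimensional k V] :
    ∃ β : V →ₗ[k] V →ₗ[k] k, ∀ x : V, (∀ y, β x y = 0) → x = 0 :=
  ⟨(Module.finBasis k V).toDual, fun x h => (Module.finBasis k V).toDual_injective
    (LinearMap.ext fun y => by simpa using h y)⟩

theorem NilPrim.inv {k V : Type*} [Field k] [AddCommGroup V] [Module k V] [FiniteDimensional k V] (h2 : (2 : k) ≠ 0)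
    (T : Module.End k V) (hT : ∀ x, T (T x) = x) : ∃ β : V →ₗ[k] V →ₗ[k] k, (∀ x : V, (∀ y, β x y = 0) → x = 0) ∧
      ∀ x y, β (T x) (T y) = β x y := by
  let A : Module.End k V := 1 + T
  let B : Module.End k V := 1 - T
  obtain ⟨a, ha⟩ := NilPrim.form (k := k) (V := LinearMap.range A)
  obtain ⟨b, hb⟩ := NilPrim.form (k := k) (V := LinearMap.range B)
  have e1 : ∀ x, A.rangeRestrict (T x) = A.rangeRestrict x := fun x => Subtype.ext (by simp [A, hT, add_comm])
  have e2 : ∀ x, B.rangeRestrict (T x) = - B.rangeRestrict x := fun x => Subtype.ext (by simp [B, hT])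
  refine ⟨a.compl₁₂ A.rangeRestrict A.rangeRestrict + b.compl₁₂ B.rangeRestrict B.rangeRestrict, fun x h => ?_,
    fun x y => by simp [e1, e2]⟩
  have h3 := ha (A.rangeRestrict x) fun ⟨_, y, hy⟩ => by
    subst hy
    have := h (y + T y)
    simp only [LinearMap.add_apply, LinearMap.compl₁₂_apply, map_add, e1, e2, map_neg] at this
    exact mul_left_cancel₀ h2 (show 2 * a _ (A.rangeRestrict y) = _ by linear_combination this)
  have h4 := hb (B.rangeRestrict x) fun ⟨_, y, hy⟩ => by
    subst hy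
    have := h (y - T y)
    simp only [LinearMap.add_apply, LinearMap.compl₁₂_apply, map_sub, e1, e2, map_neg] at this
    exact mul_left_cancel₀ h2 (show 2 * b _ (B.rangeRestrict y) = _ by linear_combination this)
  have h5 : x + T x = 0 := congrArg Subtype.val h3
  have h6 : x - T x = 0 := congrArg Subtype.val h4
  exact (smul_eq_zero.1 (show (2 : k) • x = 0 by rw [two_smul, ← add_zero (0 : V)]; nth_rw 1 [← h5]; rw [← h6]; abel)).resolve_left h2

/-- notes/KR.md, section NilPrim -/
theorem nilPrim {p : ℕ} [Fact p.Prime] {F : Type u} [Group F] [Finite F] {V : Type*} [AddCommGroup V]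
    [Module (ZMod p) V] [Finite V] (ρ : Representation (ZMod p) F V) (hp : ¬ p ∣ Nat.card F)
    (hρ : Function.Injective ρ) (hirr : Irred ρ) (C : Subgroup F) (hC : IsCyclic C)
    (h2 : C.index ≤ 2) : RealRep ρ := by
  rcases subsingleton_or_nontrivial V with hV | hV
  · exact ⟨0, 0, fun x _ => Subsingleton.elim _ _, fun _ _ _ _ => rfl⟩
  obtain ⟨v, hv⟩ := exists_ne (0 : V)
  have h1 : C.index = 1 ∨ C.index = 2 := by have := C.index_ne_zero_of_finite; omega
  have hn : C.Normal := h1.elim (fun e => by rw [index_eq_one.1 e]; infer_instance) normal_of_index_eq_two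
  have rm : ∀ (a c : F) x, ρ (a * c) x = ρ a (ρ c x) := fun a c x => by rw [map_mul]; rfl
  have fx : ∀ c ∈ C, ρ c v = v → c = 1 := fun c hc e => by
    refine hρ (LinearMap.ext fun x => ?_)
    rcases hirr (LinearMap.eqLocus (ρ c) 1) (fun g x hx => by
      obtain ⟨n, hn⟩ := (MulAut.conjNormal (H := C) g⁻¹).toMonoidHom.map_cyclic
      have h3 : g⁻¹ * c * g = c ^ n := by simpa using congrArg Subtype.val (hn ⟨c, hc⟩)
      have h4 : c ^ n ∈ (MulAction.stabilizer (Module.End (ZMod p) V)ˣ x).comap ρ.toHomUnits :=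
        zpow_mem (show c ∈ _ from hx) n
      change ρ c (ρ g x) = ρ g x
      rw [← rm, show c * g = g * (g⁻¹ * c * g) by group, h3, rm]
      exact congrArg (ρ g) h4) with h | h
    · exact absurd (h.le e) hv
    · simpa using (h.ge trivial : ρ c x = x)
  by_cases hs : ∀ g : F, ρ g v = v → g = 1
  · obtain ⟨β, hβ⟩ := NilPrim.form (k := ZMod p) (V := V)
    exact ⟨v, β, hβ, fun g hg x y => by simp [hs g hg]⟩
  push Not at hs
  obtain ⟨t, ht, t1⟩ := hs
  have tC : t ∉ C := fun h => t1 (fx t h ht)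
  have hi := h1.resolve_left fun e => tC ((index_eq_one.1 e).ge trivial)
  have key : ∀ g, ρ g v = v → g ≠ 1 → t * g = 1 := fun g hg g1 =>
    fx _ ((mul_mem_iff_of_index_two hi).2 (iff_of_false tC fun h => g1 (fx g h hg))) (by rw [rm, hg, ht])
  have tt := key t ht t1
  obtain ⟨β, hβ, hi'⟩ := NilPrim.inv (k := ZMod p) (fun e => hp (by
    have : p ∣ 2 := (ZMod.natCast_eq_zero_iff 2 p).1 (by exact_mod_cast e)
    exact this.trans (hi ▸ C.index_dvd_card))) (ρ t) fun x => by rw [← rm, tt]; simp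
  refine ⟨v, β, hβ, fun g hg x y => ?_⟩
  by_cases g1 : g = 1
  · simp [g1]
  · rw [mul_left_cancel ((key g hg g1).trans tt.symm), hi']

end Cfsg.Agent.KR
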