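import Cfsg.Agent.KR.Defs2

set_option autoImplicit false

open Subgroup
open scoped commutatorElement

namespace Cfsg.Agent.KR

universe u

/-- notes/KR.md, section NilSum -/
theorem nilSum {k F V : Type*} [Field k] [Group F] [AddCommGroup V] [Module k V]
    {ρ : Representation k F V} {ι : Type*} [Fintype ι] [MulAction F ι] {π : ι → Module.End k V}
    (h : Imp ρ ι π) (hi : ∀ i, RealOn ρ (MulAction.stabilizer F i) (LinearMap.range (π i))) :
    RealRep ρ := by
  classical
  choose v β nd inv using hi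
  have cm : ∀ (g : F) i x, ρ g (π i x) = π (g • i) (ρ g x) := fun g i x => LinearMap.congr_fun (h.comm g i) x
  have ort : ∀ i j, i ≠ j → ∀ x, π i (π j x) = 0 := fun i j e x => LinearMap.congr_fun (h.orth i j e) x
  have sm : ∀ x, ∑ i, π i x = x := fun x => by simpa using LinearMap.congr_fun h.sum x
  have idem : ∀ i x, π i (π i x) = π i x := fun i x => by
    conv_rhs => rw [← sm x, map_sum]
    exact (Finset.sum_eq_single i (fun j _ e => ort i j e.symm x) (by simp)).symm
  have pv : ∀ i, π i (v i) = v i := fun i => by obtain ⟨x, hx⟩ := (v i).2; rw [← hx, idem]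
  let b : ι → V →ₗ[k] V →ₗ[k] k := fun i => (β i).compl₁₂ (π i).rangeRestrict (π i).rangeRestrict
  have b2 : ∀ i x y y', π i y = π i y' → b i x y = b i x y' := fun i x y y' e =>
    congrArg (β i _) (Subtype.ext e)
  have bn : ∀ i x, (∀ y, b i x y = 0) → π i x = 0 := fun i x e =>
    congrArg Subtype.val (nd i ((π i).rangeRestrict x) fun ⟨_, y, hy⟩ => by subst hy; exact e y)
  have bi : ∀ i (g : F), g • i = i → ρ g (v i) = v i → ∀ x y, b i (ρ g x) (ρ g y) = b i x y :=
    fun i g e1 e2 x y => inv i g e1 e2 _ _ _ _ (by simp [cm, e1]) (by simp [cm, e1])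
  let rep : ι → ι := fun i => (Quotient.mk (MulAction.orbitRel F ι) i).out
  have hr : ∀ (g : F) i, rep (g • i) = rep i := fun g i =>
    congrArg Quotient.out (Quotient.sound (MulAction.mem_orbit i g))
  have : ∀ i, ∃ g : F, g • i = rep i := fun i => Quotient.mk_out (s := MulAction.orbitRel F ι) i
  choose t ht using this
  have ht' : ∀ i, (t i)⁻¹ • rep i = i := fun i => by rw [← ht, inv_smul_smul]
  have rm : ∀ (a c : F) x, ρ (a * c) x = ρ a (ρ c x) := fun a c x => by rw [map_mul]; rfl
  have pw : ∀ i, π i (∑ j, ρ (t j)⁻¹ (v (rep j))) = ρ (t i)⁻¹ (v (rep i)) := fun i => by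
    have : ∀ j, ρ (t j)⁻¹ (v (rep j)) = π j (ρ (t j)⁻¹ (v (rep j))) := fun j => by
      conv_lhs => rw [← pv, cm, ht']
    rw [map_sum, Finset.sum_eq_single i (fun j _ e => by rw [this, ort i j e.symm]) (by simp), ← this]
  refine ⟨∑ j, ρ (t j)⁻¹ (v (rep j)), ∑ i, (b (rep i)).compl₁₂ (ρ (t i)) (ρ (t i)), fun x hx => ?_,
    fun g hg x y => ?_⟩
  · rw [← sm x]
    refine Finset.sum_eq_zero fun j _ => ?_
    have := bn (rep j) (ρ (t j) x) fun y => by
      have := hx (π j (ρ (t j)⁻¹ y))
      simp only [LinearMap.sum_apply, LinearMap.compl₁₂_apply] at this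
      rw [Finset.sum_eq_single j (fun i _ e => by
        rw [b2 _ _ _ 0 (by rw [← ht, ← cm, ort i j e, map_zero, map_zero]), map_zero]) (by simp)] at this
      rw [← this]
      exact b2 _ _ _ _ (by rw [cm, ht, idem, ← rm]; simp)
    rw [← ht, ← cm] at this
    simpa [← rm] using congrArg (ρ (t j)⁻¹) this
  · simp only [LinearMap.sum_apply, LinearMap.compl₁₂_apply]
    refine (Fintype.sum_equiv (MulAction.toPerm g) _ _ fun i => ?_).symm
    have e := cm g i (∑ j, ρ (t j)⁻¹ (v (rep j)))
    rw [hg, pw, pw, hr] at e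
    rw [MulAction.toPerm_apply, hr, ← bi (rep i) (t (g • i) * g * (t i)⁻¹) (by rw [mul_smul, ht', mul_smul, ht, hr])
      (by rw [rm, rm, e, ← rm]; simp)]
    simp only [← rm, inv_mul_cancel_right]

end Cfsg.Agent.KR
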