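import Cfsg.Agent.KR.Defs2
import Cfsg.Agent.KR.NilSum
import Cfsg.Agent.KR.NilCyc
import Cfsg.Agent.KR.NilPrim
import Cfsg.Agent.KR.NilImp

set_option autoImplicit false

open Subgroup
open scoped commutatorElement

namespace Cfsg.Agent.KR

universe u v

/-- Maschke: an equivariant projection onto an invariant subspace -/
theorem nil_proj {k F V : Type*} [Field k] [Group F] [Finite F] [AddCommGroup V] [Module k V]
    (ρ : Representation k F V) (hp : (Nat.card F : k) ≠ 0) (U : Submodule k V)
    (hU : ∀ g : F, ∀ x ∈ U, ρ g x ∈ U) : ∃ P : Module.End k V, (∀ x, P x ∈ U) ∧ (∀ x ∈ U, P x = x) ∧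
      ∀ g, ρ g * P = P * ρ g := by
  have := Fintype.ofFinite F
  obtain ⟨q, hq⟩ := U.subtype.exists_leftInverse_of_injective U.ker_subtype
  have hq' : ∀ x ∈ U, (q x : V) = x := fun x hx =>
    congrArg Subtype.val (LinearMap.congr_fun hq ⟨x, hx⟩)
  refine ⟨(Nat.card F : k)⁻¹ • ∑ g : F, ρ g * (U.subtype ∘ₗ q) * ρ g⁻¹, fun x => ?_, fun x hx => ?_, fun h => ?_⟩
  · rw [LinearMap.smul_apply, LinearMap.sum_apply]
    exact U.smul_mem _ (U.sum_mem fun g _ => hU g _ (q _).2)
  · rw [LinearMap.smul_apply, LinearMap.sum_apply, Finset.sum_congr rfl (g := fun _ => x) fun g _ => by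
      change ρ g (q (ρ g⁻¹ x)) = x
      rw [hq' _ (hU _ x hx), ← Module.End.mul_apply, ← map_mul, mul_inv_cancel, map_one, Module.End.one_apply],
      Finset.sum_const, Finset.card_univ, ← Nat.card_eq_fintype_card, ← Nat.cast_smul_eq_nsmul k, smul_smul,
      inv_mul_cancel₀ hp, one_smul]
  · rw [mul_smul_comm, smul_mul_assoc, Finset.mul_sum, Finset.sum_mul]
    congr 1
    refine Fintype.sum_equiv (Equiv.mulLeft h) _ _ fun g => ?_
    rw [Equiv.coe_mulLeft, mul_assoc _ _ (ρ h), ← map_mul, mul_inv_rev, inv_mul_cancel_right, map_mul]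
    simp only [mul_assoc]

theorem nil_aux {p : ℕ} [Fact p.Prime] (n : ℕ) : ∀ (F : Type u) [Group F] [Finite F] (V : Type v)
    [AddCommGroup V] [Module (ZMod p) V] [Finite V] (ρ : Representation (ZMod p) F V),
    Group.IsNilpotent F → ¬ p ∣ Nat.card F → Nat.card V = n → RealRep ρ := by
  induction n using Nat.strong_induction_on with
  | _ n ih =>
  have main : ∀ (F : Type u) [Group F] [Finite F] (V : Type v)
      [AddCommGroup V] [Module (ZMod p) V] [Finite V] (ρ : Representation (ZMod p) F V),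
      Group.IsNilpotent F → ¬ p ∣ Nat.card F → Nat.card V = n → Function.Injective ρ → RealRep ρ := by
    intro F _ _ V _ _ _ ρ hF hp hn hρ
    have on : ∀ (H : Subgroup F) (U : Submodule (ZMod p) V), (∀ g ∈ H, ∀ x ∈ U, ρ g x ∈ U) → U ≠ ⊤ →
        RealOn ρ H U := fun H U hU ht => by
      obtain ⟨v, β, h1, h2⟩ := ih _ (hn ▸ Finite.card_subtype_lt (p := (· ∈ U))
          (not_forall.1 (mt Submodule.eq_top_iff'.2 ht)).choose_spec) H U
        (Representation.subrepresentation (ρ.comp H.subtype) U fun g x hx => hU g g.2 x hx) inferInstance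
        (fun h => hp (h.trans H.card_subgroup_dvd_card)) rfl
      refine ⟨v, β, h1, fun g hg e x y x' y' e1 e2 => ?_⟩
      rw [← h2 ⟨g, hg⟩ (Subtype.ext e) x y]
      congr 1
      · congr 1
        exact Subtype.ext e1
      · exact Subtype.ext e2
    have imp : ∀ {ι : Type u} [Fintype ι] [MulAction F ι] {π : ι → Module.End (ZMod p) V},
        Imp ρ ι π → (∀ i, LinearMap.range (π i) ≠ ⊤) → RealRep ρ := fun h ht =>
      nilSum h fun i => on _ _ (by
        rintro g hg _ ⟨x, rfl⟩
        refine ⟨ρ g x, ?_⟩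
        rw [← Module.End.mul_apply, ← Module.End.mul_apply, h.comm, MulAction.mem_stabilizer_iff.1 hg]) (ht i)
    by_cases hirr : Irred ρ
    · by_cases hab : ∀ A : Subgroup F, A.Normal → IsMulCommutative A → IsCyclic A
      · obtain ⟨C, hC, h2⟩ := nilCyc hF hab
        exact nilPrim ρ hp hρ hirr C hC h2
      · push Not at hab
        obtain ⟨A, h1, h2, h3⟩ := hab
        obtain ⟨ι, _, _, π, h, ht⟩ := nilImp ρ hF hp hρ hirr A h1 h2 h3
        exact imp h ht
    · simp only [Irred, not_forall, not_or] at hirr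
      obtain ⟨U, hU, hb, ht⟩ := hirr
      obtain ⟨P, h1, h2, h3⟩ := nil_proj ρ (mt (ZMod.natCast_eq_zero_iff _ _).1 hp) U hU
      have PP : P * P = P := LinearMap.ext fun x => h2 _ (h1 x)
      letI : MulAction F (ULift.{u} Bool) :=
        { smul := fun _ b => b, one_smul := fun _ => rfl, mul_smul := fun _ _ _ => rfl }
      refine imp (ι := ULift.{u} Bool) (π := fun b => if b.down then P else 1 - P) ⟨?_, ?_, ?_⟩ ?_
      · rw [← Equiv.ulift.symm.sum_comp]
        simp
      · rintro ⟨_ | _⟩ ⟨_ | _⟩ h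
        · exact absurd rfl h
        · simp [sub_mul, PP]
        · simp [mul_sub, PP]
        · exact absurd rfl h
      · rintro g ⟨_ | _⟩
        · change ρ g * (1 - P) = (1 - P) * ρ g
          rw [mul_sub, sub_mul, h3, mul_one, one_mul]
        · exact h3 g
      · rintro ⟨_ | _⟩ h
        · refine hb (eq_bot_iff.2 fun x hx => ?_)
          obtain ⟨y, hy⟩ : x ∈ LinearMap.range (1 - P) := (h ▸ Submodule.mem_top : x ∈ LinearMap.range _)
          have := h2 x hx
          rw [← hy, ← Module.End.mul_apply, mul_sub, PP, mul_one, sub_self] at this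
          rw [← hy, ← this]
          exact Submodule.zero_mem _
        · refine ht (eq_top_iff.2 fun x _ => ?_)
          obtain ⟨y, hy⟩ : x ∈ LinearMap.range P := (h ▸ Submodule.mem_top : x ∈ LinearMap.range _)
          exact hy ▸ h1 y
  intro F _ _ V _ _ _ ρ hF hp hn
  let K := MonoidHom.ker ρ
  let σ : Representation (ZMod p) (F ⧸ K) V := QuotientGroup.lift K ρ le_rfl
  have hσ : Function.Injective σ := (injective_iff_map_eq_one σ).2 fun y hy => by
    obtain ⟨g, rfl⟩ := QuotientGroup.mk_surjective y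
    exact (QuotientGroup.eq_one_iff g).2 hy
  obtain ⟨v, β, h1, h2⟩ := main (F ⧸ K) V σ inferInstance (fun h => hp (h.trans K.card_quotient_dvd_card)) hn hσ
  exact ⟨v, β, h1, fun g => h2 (g : F ⧸ K)⟩

/-- notes/KR.md, section Nil -/
theorem nilReal {p : ℕ} [Fact p.Prime] {F : Type u} [Group F] [Finite F] {V : Type*} [AddCommGroup V]
    [Module (ZMod p) V] [Finite V] (ρ : Representation (ZMod p) F V) (hF : Group.IsNilpotent F)
    (hp : ¬ p ∣ Nat.card F) : RealRep ρ :=
  nil_aux _ F V ρ hF hp rfl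

end Cfsg.Agent.KR
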