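import Cfsg.Agent.KR.Defs2
import Cfsg.Agent.KR.Nil
import Cfsg.Agent.S4959

set_option autoImplicit false

open Subgroup
open scoped commutatorElement

namespace Cfsg.Agent.KR

universe u

theorem nilK_aux {X : Type*} [Group X] [Finite X] (p : ℕ) [Fact p.Prime] {W : Type*} [AddCommGroup W]
    [Module (ZMod p) W]
    (V : Subgroup X) [V.Normal] (e : W ≃ V) (he : ∀ a b, e (a + b) = e a * e b)
    (hVexp : ∀ v ∈ V, v ^ p = 1) (hidx : ¬ p ∣ V.index) (hself : centralizer (V : Set X) = V)
    (hn : Group.IsNilpotent (X ⧸ V)) : Nat.card (ConjClasses X) ≤ Nat.card V := by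
  classical
  have hp : IsPGroup p V := fun v => ⟨1, Subtype.ext (by rw [pow_one]; exact hVexp v v.2)⟩
  obtain ⟨n, hc⟩ := IsPGroup.iff_card.1 hp
  obtain ⟨G, hG⟩ := exists_right_complement'_of_coprime (N := V)
    (hc ▸ ((Nat.Prime.coprime_iff_not_dvd Fact.out).2 hidx).pow_left n)
  have e0 : e 0 = 1 := mul_eq_left.1 ((he 0 0).symm.trans (by rw [add_zero]))
  have hs : ∀ a b : V, e.symm (a * b) = e.symm a + e.symm b := fun a b =>
    e.injective (by rw [he]; simp)
  have := Finite.of_equiv _ e.symm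
  let f : G → Module.End (ZMod p) W := fun g =>
    (AddMonoidHom.mk' (fun a => e.symm (MulAut.conjNormal (g : X) (e a))) fun a b => by
      rw [he, map_mul, hs]).toZModLinearMap p
  let ρ : Representation (ZMod p) G W := MonoidHom.mk (M := G) (N := Module.End (ZMod p) W)
    ⟨f, LinearMap.ext fun a => by
      change e.symm (MulAut.conjNormal ((1 : G) : X) (e a)) = a
      simp⟩ fun g h => LinearMap.ext fun a => by
      change e.symm (MulAut.conjNormal ((g * h : G) : X) (e a)) =
        e.symm (MulAut.conjNormal (g : X) (e (e.symm (MulAut.conjNormal (h : X) (e a)))))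
      simp
  have hρ : ∀ (g : G) (a : V), ρ g (e.symm a) = e.symm (MulAut.conjNormal (g : X) a) := fun g a => by
    change e.symm (MulAut.conjNormal (g : X) (e (e.symm a))) = _
    rw [e.apply_symm_apply]
  obtain ⟨v, β, h1, h2⟩ := nilReal ρ (Group.nilpotent_of_mulEquiv hG.symm.QuotientMulEquiv)
    (by rwa [← hG.symm.index_eq_card])
  let b : X → X → ZMod p := fun x y =>
    if h : x ∈ V ∧ y ∈ V then β (e.symm ⟨x, h.1⟩) (e.symm ⟨y, h.2⟩) else 0
  have hb : ∀ x y : V, b x y = β (e.symm x) (e.symm y) := fun x y => dif_pos ⟨x.2, y.2⟩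
  refine S4959.result p V hVexp hidx hself G hG (e v) (e v).2 V le_rfl
    (fun h _ _ u hu => Normal.conj_mem inferInstance u hu h) (fun h hh _ k => ?_) b
    (fun u hu u' hu' w hw => ?_) (fun u hu w hw w' hw' => ?_) (fun h hh k u hu w hw => ?_) fun u hu k => ?_
  · refine disjoint_def.1 hG.disjoint (hself ▸ fun u hu => ?_) hh
    exact (mul_inv_eq_iff_eq_mul.1 (k u hu)).symm
  · have := hb (⟨u, hu⟩ * ⟨u', hu'⟩) ⟨w, hw⟩
    rw [hs, map_add, LinearMap.add_apply, ← hb, ← hb] at this
    exact this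
  · have := hb ⟨u, hu⟩ (⟨w, hw⟩ * ⟨w', hw'⟩)
    rw [hs, map_add, ← hb, ← hb] at this
    exact this
  · have := h2 ⟨h, hh⟩ (by
      rw [← e.symm_apply_apply v, hρ]
      exact congrArg e.symm (Subtype.ext k)) (e.symm ⟨u, hu⟩) (e.symm ⟨w, hw⟩)
    rw [hρ, hρ, ← hb, ← hb] at this
    exact this
  · have := h1 (e.symm ⟨u, hu⟩) fun y => by
      rw [← e.symm_apply_apply y, ← hb]
      exact k _ (e y).2
    rw [Equiv.symm_apply_eq, e0] at this
    exact congrArg Subtype.val this

/-- notes/KR.md, section NilK -/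
theorem nilK {X : Type*} [Group X] [Finite X] (p : ℕ) [Fact p.Prime] (V : Subgroup X) [V.Normal]
    (hVexp : ∀ v ∈ V, v ^ p = 1) (hidx : ¬ p ∣ V.index) (hself : centralizer (V : Set X) = V)
    (hn : Group.IsNilpotent (X ⧸ V)) : Nat.card (ConjClasses X) ≤ Nat.card V := by
  let _ : CommGroup V :=
    { (inferInstance : Group V) with
      mul_comm := fun a b => Subtype.ext ((hself.ge b.2) a a.2) }
  have : Module (ZMod p) (Additive V) := AddCommGroup.zmodModule fun a =>
    congrArg Additive.ofMul (Subtype.ext (hVexp _ a.toMul.2) : a.toMul ^ p = 1)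
  exact nilK_aux p (W := Additive V) V Additive.toMul (fun _ _ => rfl) hVexp hidx hself hn

end Cfsg.Agent.KR
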