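import Cfsg.Agent.KR.Defs
import Cfsg.Agent.H12.KgB

set_option autoImplicit false

open Subgroup
open scoped commutatorElement

namespace Cfsg.Agent.KR

universe u

/-- notes/KR.md, section Perm -/
theorem perm_card (X α : Type*) [Group X] [Finite X] [MulAction X α] [FaithfulSMul X α]
    [Group.IsSolvable X] [Finite α] [Nonempty α] : Nat.card X ≤ 3 ^ (Nat.card α - 1) := by
  have h := H12.KG.dixon (S := (MulAction.toPermHom X α).range) (Ω := α)
    (Group.isSolvable_of_surjective (MulAction.toPermHom X α).rangeRestrict_surjective)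
  rw [(MonoidHom.ker_eq_bot_iff _).2 MulAction.toPerm_injective, index_bot,
    ← Nat.card_congr (MonoidHom.ofInjective (f := MulAction.toPermHom X α) MulAction.toPerm_injective).toEquiv] at h
  obtain ⟨n, hn⟩ := Nat.exists_eq_succ_of_ne_zero (Nat.card_pos (α := α)).ne'
  rw [hn, pow_succ] at h
  rw [hn, Nat.succ_sub_one]
  omega

end Cfsg.Agent.KR
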