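import Cfsg.Agent.KR.Defs
import Cfsg.Agent.H35.Simple
import Cfsg.Agent.S4208

set_option autoImplicit false

open Subgroup
open scoped commutatorElement

namespace Cfsg.Agent.KR

universe u

section
variable {G : Type*} [Group G] [Finite G]

omit [Finite G] in
theorem sym16_free {X : Type*} (φ : G →* Equiv.Perm X) {A : Subgroup G} {S : Set X}
    (hS : ∀ a ∈ A, ∀ x ∈ S, φ a x ∈ S) (hf : ∀ a ∈ A, ∀ x ∈ S, φ a x = x → a = 1) : Nat.card A ∣ S.ncard := by
  let _ : MulAction A S :=
    { smul := fun g x => ⟨φ g x, hS g g.2 x x.2⟩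
      one_smul := fun x => Subtype.ext (show φ 1 x = x by simp)
      mul_smul := fun a b x => Subtype.ext (show φ (a * b) x = φ a (φ b x) by simp) }
  rw [← Nat.card_coe_set_eq, Nat.card_congr (MulAction.selfEquivOrbitsQuotientProd (G := A) (X := S) fun x =>
    eq_bot_iff.2 fun g hg => Subtype.ext (hf g g.2 x x.2 (congrArg Subtype.val hg))), Nat.card_prod]
  exact dvd_mul_left _ _

theorem sym16_aut {n : ℕ} {p : ℕ} [Fact p.Prime] (h : Nat.card G = p ^ n) :
    ∃ r ≤ n, Nat.card (MulAut G) ∣ p ^ (r * (n - r)) * ∏ i ∈ Finset.range r, (p ^ r - p ^ i) := by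
  obtain ⟨r, hr, e⟩ := (Nat.dvd_prime_pow (m := n) Fact.out).mp (h ▸ (frattini G).index_dvd_card)
  exact ⟨r, hr, S4208.result h e⟩

omit [Finite G] in
theorem sym16_card (A B : Subgroup G) : Nat.card B = Nat.card ↥(A ⊓ B) * A.relIndex B := by
  rw [relIndex, ← (A.subgroupOf B).card_mul_index, H2.card_subgroupOf]

theorem sym16_rel (A B : Subgroup G) : A.relIndex B ≤ A.index := by
  rw [← relIndex_top_right]
  exact relIndex_le_of_le_right le_top (by rw [relIndex_top_right]; exact index_ne_zero_of_finite)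

theorem sym16_small {c : ℕ} (Z : Subgroup G) {a b : ℕ} (ha : Nat.card Z ≤ a)
    (hb : ∀ x ∉ Z, Nat.card (centralizer ({x} : Set G)) ≤ b) (hb0 : 0 < b) (h : a + b ≤ c + 1) : Small c G := fun H => by
  have := k_add_one_le ((Z.subgroupOf H : Subgroup H) : Set H) (Z.subgroupOf H).one_mem (a := a) (b := b)
    ((H2.card_subgroupOf Z H).trans_le ((card_le_of_le inf_le_left).trans ha)) (fun x hx => by
      rw [H83.card_cent_subgroup]
      exact (card_le_of_le inf_le_right).trans (hb x hx)) hb0
  omega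

/-- a self-centralising normal subgroup of order `9` and index dividing `16` -/
theorem sym16_nine {F : Subgroup G} [F.Normal] (h1 : Nat.card F = 9) (h2 : centralizer (F : Set G) = F)
    (h3 : F.index ∣ 16) {x : G} (hx : x ≠ 1) : Nat.card (centralizer ({x} : Set G)) ≤ 18 := by
  have := Fact.mk Nat.prime_two
  have sub : ∀ D ≤ F, D = ⊥ ∨ Nat.card D = 3 ∨ D = F := fun D hD => by
    obtain ⟨i, hi, e⟩ := (Nat.dvd_prime_pow (m := 2) Nat.prime_three).1 (h1 ▸ card_dvd_of_le hD :)
    interval_cases i
    exacts [.inl (card_eq_one.1 e), .inr (.inl e), .inr (.inr (eq_of_le_of_card_ge hD (by omega)))]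
  have key : ∀ D ≤ F, D ≠ ⊥ → Nat.card (centralizer (D : Set G)) ≤ 18 := fun D hD h0 => by
    obtain e | e := (sub D hD).resolve_left h0
    swap
    · rw [e, h2]; omega
    have a1 : F ≤ centralizer (D : Set G) := h2.ge.trans (centralizer_le hD)
    obtain ⟨T⟩ : Nonempty (Sylow 2 (centralizer (D : Set G))) := inferInstance
    have a2 := sym16_free ((MulAut.toPerm G).comp MulAut.conj) 
      (A := (T : Subgroup (centralizer (D : Set G))).map (centralizer (D : Set G)).subtype) (S := (F : Set G) \ D) (by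
        rintro _ ⟨t, -, rfl⟩ y ⟨b1, b2⟩
        refine ⟨(inferInstance : F.Normal).conj_mem y b1 _, fun b3 => b2 ?_⟩
        have : t.1 * y * t.1⁻¹ * t = t * (t.1 * y * t.1⁻¹) := t.2 _ b3
        rwa [show y = t.1 * y * t.1⁻¹ by simpa [mul_assoc] using this]) (by
        rintro _ ⟨t, ht, rfl⟩ y ⟨b1, b2⟩ b3
        have b4 : F ⊓ centralizer {t.1} = F := ((sub _ inf_le_left).resolve_left fun k => h0 (eq_bot_iff.2 (k ▸ le_inf hD
          fun d hd => mem_centralizer_singleton_iff.2 (t.2 d hd)))).resolve_left fun k => b2 ((eq_of_le_of_card_ge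
            (le_inf hD fun d hd => mem_centralizer_singleton_iff.2 (t.2 d hd)) (k.trans e.symm).le).ge
              ⟨b1, mem_centralizer_singleton_iff.2 (mul_inv_eq_iff_eq_mul.1 b3).symm⟩)
        have b5 : t.1 ∈ F := h2.le fun d hd => mem_centralizer_singleton_iff.1 (b4.ge hd).2
        obtain ⟨k, hk⟩ := T.isPGroup' ⟨t, ht⟩
        exact orderOf_eq_one_iff.1 (Nat.eq_one_of_dvd_coprimes (Nat.Coprime.pow_left k (by decide : Nat.Coprime 2 9))
          (orderOf_dvd_of_pow_eq_one (congrArg (fun x => x.1.1) hk)) (h1 ▸ orderOf_dvd_natCard _ b5)))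
    rw [Set.ncard_diff hD, card_map_of_injective (subtype_injective _), ← Nat.card_coe_set_eq, ← Nat.card_coe_set_eq,
      SetLike.coe_sort_coe, SetLike.coe_sort_coe, h1, e, T.card_eq_multiplicity] at a2
    have a3 := sym16_card F (centralizer (D : Set G))
    rw [inf_eq_left.2 a1, h1] at a3
    obtain ⟨i, hi, a4⟩ := (Nat.dvd_prime_pow (m := 4) Nat.prime_two).1 ((relIndex_dvd_index_of_normal F _).trans h3 :
      F.relIndex (centralizer (D : Set G)) ∣ _)
    rw [a4] at a3
    rw [a3] at a2 ⊢
    interval_cases i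
    · decide
    · decide
    all_goals exact absurd ((Nat.Prime.pow_dvd_iff_dvd_ordProj (k := 2) Nat.prime_two (by decide)).1
      (by decide) |>.trans a2) (by decide)
  have h4 := sym16_card F (centralizer {x})
  rcases sub (F ⊓ centralizer {x}) inf_le_left with e | e | e
  · have := (sym16_rel F (centralizer {x})).trans (Nat.le_of_dvd (by decide) h3)
    rw [e, card_bot] at h4
    omega
  · have a1 := sym16_card (centralizer ((F ⊓ centralizer {x} : Subgroup G) : Set G)) (centralizer {x})
    have a2 := (relIndex_le_of_le_right (H := centralizer ((F ⊓ centralizer {x} : Subgroup G) : Set G))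
      ((le_inf le_normalizer_of_normal le_normalizer).trans inf_normalizer_le_normalizer_inf) 
        index_ne_zero_of_finite).trans
      (Nat.le_of_dvd two_pos (H35.relIndex_dvd_pred Nat.prime_three _ e))
    have a3 := key (F ⊓ centralizer {x}) inf_le_left fun k => by rw [k, card_bot] at e; omega
    have a4 := sym16_card (centralizer {x}) (centralizer ((F ⊓ centralizer {x} : Subgroup G) : Set G))
    have a5 : (centralizer {x}).relIndex (centralizer ((F ⊓ centralizer {x} : Subgroup G) : Set G)) ≠ 1 := fun k => by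
      rw [inf_eq_left.2 ((h2.ge.trans (centralizer_le (show _ ≤ F from inf_le_left))).trans (relIndex_eq_one.1 k))] at e
      omega
    have a6 : (centralizer {x}).relIndex (centralizer ((F ⊓ centralizer {x} : Subgroup G) : Set G)) ≠ 0 :=
      index_ne_zero_of_finite
    rw [inf_comm (centralizer {x})] at a4
    have := Nat.mul_le_mul_left (Nat.card ↥(centralizer ((F ⊓ centralizer {x} : Subgroup G) : Set G) ⊓ centralizer {x}))
      (show _ ≤ (centralizer {x}).relIndex (centralizer ((F ⊓ centralizer {x} : Subgroup G) : Set G)) from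
        a2.trans (by omega))
    omega
  · have := key (zpowers x) (zpowers_le.2 (h2.le fun d hd => mem_centralizer_singleton_iff.1 (e.ge hd).2))
      (mt zpowers_eq_bot.1 hx)
    rwa [zpowers_eq_closure, centralizer_closure] at this

end

/-- notes/KR.md, section Sym16 -/
theorem sym16 {Γ W : Type*} [Group Γ] [Finite Γ] [AddCommGroup W] [Finite W]
    [DistribMulAction Γ W] {β : W →+ W →+ ZMod 2} (h : Sym 2 Γ W β)
    (hW : Nat.card W = 16) : Small 27 Γ := by
  have := h.solv
  have := Fact.mk Nat.prime_two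
  have := Fact.mk Nat.prime_three
  have := Fact.mk Nat.prime_five
  have h0 : Nat.card Γ ∣ 20160 := by
    obtain ⟨r, hr, e⟩ := sym16_aut (G := Multiplicative W) (p := 2) (n := 4) hW
    refine (card_dvd_of_injective (MonoidHom.mk' (fun g => AddEquiv.toMultiplicative (DistribMulAction.toAddEquiv W g))
      fun a b => MulEquiv.ext fun x => mul_smul a b x.toAdd : Γ →* MulAut (Multiplicative W))
      ((injective_iff_map_eq_one _).2 fun g e => h.faith g fun w => DFunLike.congr_fun e (.ofAdd w))).trans (e.trans ?_)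
    interval_cases r <;> decide
  have h1 : ∀ N : Subgroup Γ, N.Normal → N ≠ ⊥ → ∀ w : W, (∀ n ∈ N, n • w = w) → w = 0 := fun N hN hn w hw =>
    AddSubgroup.mem_bot.1 (((h.irr (FixedPoints.addSubgroup N W) fun g v hv n => by
      change n.1 • g • v = g • v
      rw [← mul_smul, ← mul_inv_cancel_left g (n.1 * g), ← mul_assoc g⁻¹, mul_smul]
      exact congrArg _ (hv ⟨_, hN.conj_mem' _ n.2 g⟩)).resolve_right fun e => hn (eq_bot_iff.2 fun n hn =>
        h.faith n fun v => e.ge (AddSubgroup.mem_top v) ⟨n, hn⟩)).le fun n => hw n n.2)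
  have h2 : ∀ q : ℕ, q.Prime → q ≠ 3 → q ≠ 5 → pCore q Γ = ⊥ := fun q hq q3 q5 => by_contra fun e => by
    have := Fact.mk hq
    have a := (H44.pCore_isPGroup (p := q) (G := Γ)).card_modEq_card_fixedPoints W
    rw [hW, show MulAction.fixedPoints (pCore q Γ) W = {0} from Set.eq_singleton_iff_unique_mem.2
      ⟨fun g => smul_zero g, fun w hw => h1 _ inferInstance e w fun n hn => hw ⟨n, hn⟩⟩, Nat.card_coe_set_eq,
      Set.ncard_singleton] at a
    rcases (Nat.Prime.dvd_mul hq).1 (show q ∣ 3 * 5 from (Nat.modEq_iff_dvd' (by decide)).1 a.symm) with k | k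
    exacts [q3 ((Nat.prime_dvd_prime_iff_eq hq Nat.prime_three).1 k), q5 ((Nat.prime_dvd_prime_iff_eq hq Nat.prime_five).1 k)]
  have h3 : ∀ (q : ℕ) [Fact q.Prime] (k : ℕ), ¬ q ^ (k + 1) ∣ 20160 → ∃ i ≤ k, Nat.card (pCore q Γ) = q ^ i :=
    fun q _ k hk => let ⟨i, hi⟩ := (H44.pCore_isPGroup (p := q) (G := Γ)).exists_card_eq
    ⟨i, by_contra fun e => hk ((pow_dvd_pow q (by omega)).trans (hi ▸ (card_subgroup_dvd_card _).trans h0)), hi⟩
  by_cases h5 : pCore 5 Γ = ⊥
  · have a1 : fittingSubgroup Γ = pCore 3 Γ := le_antisymm (H44.fitting_eq_iSup_pCore.le.trans (iSup_le fun q => by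
      by_cases q3 : q.1 = 3
      · rw [q3]
      by_cases q5 : q.1 = 5
      · rw [q5, h5]; exact bot_le
      · rw [h2 q (Nat.prime_of_mem_primeFactors q.2) q3 q5]; exact bot_le)) H44.pCore_le_fitting
    have a2 := S0044.result (G := Γ)
    obtain ⟨i, hi, a3⟩ := h3 3 2 (by decide)
    rw [a1] at a2
    have a4 : (pCore 3 Γ).Normal := a1 ▸ inferInstance
    generalize pCore 3 Γ = F at a2 a3 a4
    have a5 := H35.relIndex_dvd_card_mulAut F
    rw [normalizer_eq_top, relIndex_top_right] at a5
    have a6 := (index_dvd_of_le a2).trans a5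
    obtain ⟨r, hr, a7⟩ := sym16_aut a3
    have a8 := F.card_mul_index
    by_cases i2 : i = 2
    · subst i2
      have a9 : F.index ∣ 16 := by
        have b1 : F.index ∣ 2240 := Nat.dvd_of_mul_dvd_mul_left (k := 9) (by decide) (by
          rw [a3] at a8; exact a8.dvd.trans h0)
        have b2 : F.index ∣ 48 := a6.trans (a7.trans (by interval_cases r <;> decide))
        exact Nat.dvd_gcd b1 b2
      have := IsPGroup.isMulCommutative_of_card_eq_prime_sq a3
      exact sym16_small ⊥ card_bot.le (fun x hx => sym16_nine a3 (le_antisymm a2 F.le_centralizer) a9 hx) (by decide)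
        (by decide)
    · have b2 : F.index ≤ 2 := Nat.le_of_dvd two_pos (a6.trans (a7.trans (by
        obtain rfl | rfl : i = 0 ∨ i = 1 := by omega
        all_goals interval_cases r <;> decide)))
      have b3 : Nat.card F ≤ 3 := a3.trans_le (Nat.pow_le_pow_right (by decide) (show i ≤ 1 by omega))
      exact Small.of_card (a8.ge.trans ((Nat.mul_le_mul b3 b2).trans (by decide)))
  obtain ⟨i, hi, a1⟩ := h3 5 1 (by decide)
  obtain rfl : i = 1 := by
    have := mt (fun e : i = 0 => card_eq_one.1 (a1.trans (by rw [e, pow_zero]))) h5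
    omega
  have a2 : (pCore 5 Γ).Normal := inferInstance
  generalize pCore 5 Γ = Y at h5 a1 a2
  have a3 : ∀ D ≤ Y, D = ⊥ ∨ D = Y := fun D hD => ((Nat.dvd_prime Nat.prime_five).1 (a1 ▸ card_dvd_of_le hD :)).imp
    card_eq_one.1 fun e => eq_of_le_of_card_ge hD (by omega)
  have a4 : Nat.card (centralizer (Y : Set Γ)) ∣ 15 := by
    have := sym16_free (MulAction.toPermHom Γ W) (A := centralizer (Y : Set Γ)) (S := {0}ᶜ)
      (fun a _ w hw => mt (smul_eq_zero_iff_eq a).1 hw) fun c hc w hw e => by
        have b1 := sym16_free (MulAction.toPermHom Γ W) (A := Y)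
          (S := (FixedPoints.addSubgroup (zpowers c) W : Set W) \ {0}) (fun y hy v hv => ⟨fun ⟨_, j, rfl⟩ => by
            change c ^ j • y • v = y • v
            rw [← mul_smul, ← zpow_mem hc j y hy, mul_smul]
            exact congrArg _ (hv.1 ⟨_, j, rfl⟩), mt (smul_eq_zero_iff_eq y).1 hv.2⟩) fun y hy v hv k =>
          by_contra fun n => hv.2 (h1 Y a2 h5 v fun z hz => ((a3 _ (inf_le_left (b := MulAction.stabilizer Γ v))).resolve_left
            (fun l => n (mem_bot.1 (l.le ⟨hy, k⟩))) |>.ge hz).2)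
        have b2 := AddSubgroup.card_addSubgroup_dvd_card (FixedPoints.addSubgroup (zpowers c) W)
        have b3 : FixedPoints.addSubgroup (zpowers c) W ≠ ⊥ := fun l => hw (AddSubgroup.mem_bot.1 (l.le
          (show w ∈ FixedPoints.addSubgroup (zpowers c) W from
            fun n => (zpowers_le (H := MulAction.stabilizer Γ w)).2 e n.2)))
        rw [Set.ncard_diff_singleton_of_mem (zero_mem _), ← Nat.card_coe_set_eq, SetLike.coe_sort_coe, a1] at b1
        rw [hW] at b2
        obtain ⟨j, hj, b4⟩ := (Nat.dvd_prime_pow (m := 4) Nat.prime_two).1 b2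
        have b5 := mt AddSubgroup.card_eq_one.1 b3
        rw [b4] at b1 b5
        obtain rfl : j = 4 := by interval_cases j <;> simp_all
        exact h.faith c fun v => (AddSubgroup.eq_top_of_card_eq _ (b4.trans hW.symm)).ge (AddSubgroup.mem_top v)
          ⟨c, mem_zpowers c⟩
    rwa [Set.compl_eq_univ_diff, Set.ncard_diff_singleton_of_mem (Set.mem_univ _), Set.ncard_univ, hW] at this
  have a5 := H35.relIndex_dvd_pred Nat.prime_five Y a1
  rw [normalizer_eq_top, relIndex_top_right] at a5
  have : IsCyclic Y := isCyclic_of_prime_card (p := 5) a1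
  have a6 := sym16_card Y (centralizer (Y : Set Γ))
  rw [inf_eq_left.2 Y.le_centralizer, a1] at a6
  refine sym16_small _ (Nat.le_of_dvd (by decide) a4) (b := 12) (fun x hx => ?_) (by decide) (by decide)
  have b1 := sym16_card Y (centralizer (Y : Set Γ) ⊓ centralizer {x})
  rw [(a3 (Y ⊓ (centralizer (Y : Set Γ) ⊓ centralizer {x})) inf_le_left).resolve_right fun e =>
    hx fun y hy => mem_centralizer_singleton_iff.1 (e.ge hy).2.2, card_bot] at b1
  have b2 := relIndex_le_of_le_right (H := Y) (inf_le_left : centralizer (Y : Set Γ) ⊓ centralizer {x} ≤ _)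
    index_ne_zero_of_finite
  have b3 := Nat.le_of_dvd (by decide) a4
  rw [sym16_card (centralizer (Y : Set Γ))]
  exact Nat.mul_le_mul (show _ ≤ 3 by omega) ((sym16_rel _ _).trans (Nat.le_of_dvd (by decide) a5))

end Cfsg.Agent.KR
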