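import Cfsg.Agent.KR.Defs
import Cfsg.Agent.H14.KPCnt

set_option autoImplicit false
set_option linter.unusedSectionVars false

open Subgroup
open scoped commutatorElement

namespace Cfsg.Agent.KR

universe u

namespace Sym64Aux

open MulAction

theorem card_le_mul {X Y : Type*} [Group X] [Finite X] (C : Subgroup X) (f : X → Y) (S : Set Y)
    (hS : S.Finite) (h1 : ∀ g, f g ∈ S) (h2 : ∀ a b, f a = f b → a⁻¹ * b ∈ C) :
    Nat.card X ≤ S.ncard * Nat.card C := by
  have := hS.to_subtype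
  rw [card_eq_card_quotient_mul_card_subgroup C, ← Nat.card_coe_set_eq]
  refine Nat.mul_le_mul_right _ (Nat.card_le_card_of_injective
    (fun q : X ⧸ C => (⟨f q.out, h1 _⟩ : S)) fun q q' e => ?_)
  rw [← q.out_eq', ← q'.out_eq']
  exact QuotientGroup.eq.2 (h2 _ _ (Subtype.mk.inj e))

theorem exists_ab (X : Type*) [Group X] [Nontrivial X] (h : Group.IsSolvable X) :
    ∃ A : Subgroup X, A.Normal ∧ A ≠ ⊥ ∧ ∀ a ∈ A, ∀ b ∈ A, a * b = b * a := by
  classical
  have hex : ∃ n, derivedSeries X n = ⊥ := Group.IsSolvable.solvable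
  have h0 : Nat.find hex ≠ 0 := fun h => by
    have := Nat.find_spec hex
    rw [h, derivedSeries_zero] at this
    exact top_ne_bot this
  obtain ⟨n, hn⟩ := Nat.exists_eq_succ_of_ne_zero h0
  have h1 := Nat.find_spec hex
  rw [hn, derivedSeries_succ] at h1
  refine ⟨_, derivedSeries_normal X n, Nat.find_min hex (m := n) (by omega), fun a ha b hb => ?_⟩
  have h3 := commutator_mem_commutator ha hb
  rwa [h1, mem_bot, commutatorElement_eq_one_iff_mul_comm] at h3

variable {Γ W : Type*} [Group Γ] [Finite Γ] [AddCommGroup W] [Finite W] [DistribMulAction Γ W]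
  {β : W →+ W →+ ZMod 2}

/-- fixed points -/
def Fx (W : Type*) [AddCommGroup W] [DistribMulAction Γ W] (D : Subgroup Γ) : AddSubgroup W where
  carrier := {x | ∀ g ∈ D, g • x = x}
  zero_mem' := fun g _ => smul_zero g
  add_mem' := fun h1 h2 g hg => by rw [smul_add, h1 g hg, h2 g hg]
  neg_mem' := fun h1 g hg => by rw [smul_neg, h1 g hg]

/-- orthogonal complement -/
def perp (β : W →+ W →+ ZMod 2) (U : AddSubgroup W) : AddSubgroup W where
  carrier := {w | ∀ v ∈ U, β v w = 0}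
  zero_mem' := fun v _ => map_zero _
  add_mem' := fun h1 h2 v hv => by rw [map_add, h1 v hv, h2 v hv, add_zero]
  neg_mem' := fun h1 v hv => by rw [map_neg, h1 v hv, neg_zero]

theorem card_perp (h : Sym 2 Γ W β) (U : AddSubgroup W) :
    Nat.card U * Nat.card (perp β U) = Nat.card W := by
  let _ : Module (ZMod 2) W := AddCommGroup.zmodModule h.exp
  have k : ∀ c : ZMod 2, c = 0 ∨ c = 1 := by decide
  let B : LinearMap.BilinForm (ZMod 2) W := LinearMap.mk₂ (ZMod 2) (fun v w => β v w)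
    (fun a b c => by rw [map_add]; rfl)
    (fun c v w => by rcases k c with rfl | rfl <;> simp) (fun a b c => map_add _ _ _)
    (fun c v w => by rcases k c with rfl | rfl <;> simp)
  have h0 : LinearMap.ker B = ⊥ := LinearMap.ker_eq_bot'.2 fun v hv =>
    h.nd v fun w => DFunLike.congr_fun hv w
  have h1 := LinearMap.BilinForm.finrank_add_finrank_orthogonal' (B := B) (U.toZModSubmodule 2)
  have h2 : B.orthogonal (U.toZModSubmodule 2) = (perp β U).toZModSubmodule 2 :=
    Submodule.ext fun w => Iff.rfl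
  rw [h0, inf_bot_eq, finrank_bot, add_zero, h2] at h1
  have h3 := Module.natCard_eq_pow_finrank (K := ZMod 2) (V := U.toZModSubmodule 2)
  have h4 := Module.natCard_eq_pow_finrank (K := ZMod 2) (V := (perp β U).toZModSubmodule 2)
  have h5 := Module.natCard_eq_pow_finrank (K := ZMod 2) (V := W)
  rw [h5, ← h1, pow_add, ← h3, ← h4]
  rfl

theorem top_of_orbit (h : Sym 2 Γ W β) {w : W} (hw : w ≠ 0) {U : AddSubgroup W}
    (hU : ∀ g : Γ, g • w ∈ U) : U = ⊤ := by
  rcases h.irr (⨅ g : Γ, U.comap (DistribSMul.toAddMonoidHom W g)) (fun g x hx => by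
    simp only [AddSubgroup.mem_iInf, AddSubgroup.mem_comap, DistribSMul.toAddMonoidHom_apply]
      at hx ⊢
    intro a; rw [← mul_smul]; exact hx _) with e | e
  · refine absurd (AddSubgroup.mem_bot.1 (e ▸ ?_)) hw
    simpa using hU
  · refine eq_top_iff.2 fun x _ => ?_
    have := AddSubgroup.mem_iInf.1 (e.ge (AddSubgroup.mem_top x)) 1
    simpa using this

theorem bot_of_top (h : Sym 2 Γ W β) {D : Subgroup Γ} (e : Fx W D = ⊤) : D = ⊥ :=
  eq_bot_iff.2 fun g hg => h.faith g fun w => e.ge (AddSubgroup.mem_top w) g hg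

theorem card_le_stab (D : Subgroup Γ) (w : W) (S : Set W) (hS : ∀ g ∈ D, g • w ∈ S) :
    Nat.card D ≤ S.ncard * Nat.card ↥(D ⊓ stabilizer Γ w) := by
  have := card_le_mul ((D ⊓ stabilizer Γ w).subgroupOf D) (fun g : D => (g : Γ) • w) S
    (Set.toFinite S) (fun g => hS g g.2) fun a b e => ⟨(a⁻¹ * b).2, by
      change ((a : Γ)⁻¹ * b) • w = w
      rw [mul_smul, inv_smul_eq_iff]; exact e.symm⟩
  rwa [Nat.card_congr (subgroupOfEquivOfLe inf_le_left).toEquiv] at this

theorem grow (h : Sym 2 Γ W β) {D : Subgroup Γ} (hD : D ≠ ⊥) :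
    ∃ D' ≤ D, Nat.card D * Nat.card (Fx W D) ≤ Nat.card W * Nat.card D' ∧
      Nat.card (Fx W D) < Nat.card (Fx W D') := by
  obtain ⟨w, hw⟩ : ∃ w, w ∉ Fx W D := by
    by_contra! hn
    exact hD (bot_of_top h (eq_top_iff.2 fun x _ => hn x))
  refine ⟨D ⊓ stabilizer Γ w, inf_le_left, ?_, ?_⟩
  · have := card_le_stab D w ((fun x => x + w) '' (perp β (Fx W D) : Set W)) fun g hg =>
      ⟨g • w - w, fun v hv => by rw [map_sub, ← h.inv g v w, hv g hg, sub_self], sub_add_cancel _ _⟩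
    rw [Set.ncard_image_of_injective _ (add_left_injective w), ← Nat.card_coe_set_eq] at this
    rw [← card_perp h (Fx W D), mul_comm, mul_assoc]
    exact Nat.mul_le_mul_left _ this
  · have hle : Fx W D ≤ Fx W (D ⊓ stabilizer Γ w) := fun x hx g hg => hx g hg.1
    refine lt_of_le_of_ne (AddSubgroup.card_le_of_le hle) fun e => hw ?_
    rw [AddSubgroup.eq_of_le_of_card_ge hle e.ge]
    exact fun g hg => hg.2

theorem modr {r : ℕ} (hr : r.Prime) {y : Γ} (hy : y ^ r = 1) (hf : ∀ w : W, y • w = w → w = 0)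
    {U : AddSubgroup W} (hU : ∀ u ∈ U, y • u ∈ U) : Nat.card U % r = 1 := by
  classical
  have := Fact.mk hr
  have := Fintype.ofFinite U
  let f : Function.End U := fun u => ⟨y • u.1, hU _ u.2⟩
  have hk : ∀ (k : ℕ) (u : U), ((f ^ k) u).1 = y ^ k • u.1 := fun k => by
    induction k with
    | zero => intro u; rw [pow_zero, pow_zero, one_smul]; rfl
    | succ k ih => intro u; rw [pow_succ, pow_succ, mul_smul]; exact ih (f u)
  have h1 := Equiv.Perm.card_fixedPoints_modEq (f := f) (p := r) (n := 1) (by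
    funext u; apply Subtype.ext; rw [pow_one, hk, hy, one_smul]; rfl)
  have h2 : Fintype.card f.fixedPoints = 1 := Fintype.card_eq_one_iff.2
    ⟨⟨0, Subtype.ext (smul_zero y)⟩, fun u => Subtype.ext (Subtype.ext
      (hf _ (congrArg Subtype.val u.2)))⟩
  rw [h2] at h1
  rw [Nat.card_eq_fintype_card, h1, Nat.mod_eq_of_lt hr.one_lt]

theorem fx_card (h : Sym 2 Γ W β) (hW : Nat.card W = 64) {r : ℕ} (hr : r.Prime) {y : Γ}
    (hy : y ^ r = 1) (hf : ∀ w : W, y • w = w → w = 0) {D : Subgroup Γ}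
    (hD : D ≤ centralizer {y}) : ∃ k ≤ 6, Nat.card (Fx W D) = 2 ^ k ∧ 2 ^ k % r = 1 ∧
      (k = 6 → Nat.card D = 1) := by
  have h1 := (Fx W D).card_addSubgroup_dvd_card
  rw [hW] at h1
  obtain ⟨k, hk, e⟩ := (Nat.dvd_prime_pow Nat.prime_two (m := 6)).1 h1
  refine ⟨k, hk, e, e ▸ modr hr hy hf fun u hu g hg => ?_, fun h6 => ?_⟩
  · rw [← mul_smul, mem_centralizer_singleton_iff.1 (hD hg), mul_smul, hu g hg]
  · rw [bot_of_top h (D := D) (AddSubgroup.eq_top_of_card_eq _ (by rw [e, h6, hW]; rfl)), card_bot]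

theorem one_lt_fx (D : Subgroup Γ) {w : W} (hw : w ≠ 0) :
    1 < Nat.card (Fx W (D ⊓ stabilizer Γ w)) :=
  Finite.one_lt_card_iff_nontrivial.2 ⟨⟨⟨w, fun _ hg => hg.2⟩, 0, fun e => hw (Subtype.mk.inj e)⟩⟩

theorem b7 (h : Sym 2 Γ W β) (hW : Nat.card W = 64) {y : Γ}
    (hy : y ^ 7 = 1) (hf : ∀ w : W, y • w = w → w = 0) {D : Subgroup Γ}
    (hD : D ≤ centralizer {y}) (h1 : 1 < Nat.card (Fx W D)) : Nat.card D ≤ 8 := by
  by_cases h0 : D = ⊥
  · rw [h0, card_bot]; omega
  obtain ⟨D', l, a, b⟩ := grow h h0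
  obtain ⟨k, hk, e, m, -⟩ := fx_card h hW (by norm_num) hy hf hD
  obtain ⟨k', hk', e', m', t'⟩ := fx_card h hW (by norm_num) hy hf (l.trans hD)
  rw [e] at a b h1
  rw [e'] at b
  rw [hW] at a
  interval_cases k <;> interval_cases k' <;> omega

theorem b3 (h : Sym 2 Γ W β) (hW : Nat.card W = 64) {y : Γ}
    (hy : y ^ 3 = 1) (hf : ∀ w : W, y • w = w → w = 0) {D : Subgroup Γ}
    (hD : D ≤ centralizer {y}) (h1 : 1 < Nat.card (Fx W D)) : Nat.card D ≤ 64 := by
  have aux : ∀ D : Subgroup Γ, D ≤ centralizer {y} → 4 < Nat.card (Fx W D) → Nat.card D ≤ 4 := by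
    intro D hD h1
    by_cases h0 : D = ⊥
    · rw [h0, card_bot]; omega
    obtain ⟨D', l, a, b⟩ := grow h h0
    obtain ⟨k, hk, e, m, -⟩ := fx_card h hW (by norm_num) hy hf hD
    obtain ⟨k', hk', e', m', t'⟩ := fx_card h hW (by norm_num) hy hf (l.trans hD)
    rw [e] at a b h1
    rw [e'] at b
    rw [hW] at a
    interval_cases k <;> interval_cases k' <;> omega
  by_cases h0 : D = ⊥
  · rw [h0, card_bot]; omega
  obtain ⟨D', l, a, b⟩ := grow h h0
  obtain ⟨k, hk, e, m, -⟩ := fx_card h hW (by norm_num) hy hf hD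
  have := aux D' (l.trans hD)
  rw [e] at a b h1
  rw [hW] at a
  interval_cases k <;> omega

theorem add_self (h : Sym 2 Γ W β) (w : W) : w + w = 0 := by rw [← two_nsmul, h.exp]

theorem finish (h : Sym 2 Γ W β) (hW : Nat.card W = 64) (hc : Nat.card Γ ≤ 4310) :
    Small 2187 Γ := by
  have : Nontrivial W := Finite.one_lt_card_iff_nontrivial.1 (by omega)
  obtain ⟨w, hw⟩ := exists_ne (0 : W)
  refine Small.of_proper (fun H hH => k_le_card.trans ?_) ?_
  · have h1 := H.card_mul_index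
    have h2 : H.index ≠ 1 := fun e => hH (index_eq_one.1 e)
    have h3 : H.index ≠ 0 := index_ne_zero_of_finite
    have h4 : 2 ≤ H.index := by omega
    nlinarith
  · have h1 := two_k_le (X := Γ)
    have h2 := Nat.card_le_card_of_injective (fun z : center Γ => (z : Γ) • w) fun a b e => by
      refine Subtype.ext (inv_mul_eq_one.1 (mem_bot.1 (bot_of_top h (D := zpowers ((a : Γ)⁻¹ * b))
        (top_of_orbit h hw fun g x hx => ?_) ▸ mem_zpowers _)))
      have h3 : zpowers ((a : Γ)⁻¹ * b) ≤ center Γ ⊓ stabilizer Γ w := zpowers_le.2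
        ⟨(a⁻¹ * b).2, mem_stabilizer_iff.2 (by rw [mul_smul, inv_smul_eq_iff]; exact e.symm)⟩
      rw [← mul_smul, ← mem_center_iff.1 (h3 hx).1 g, mul_smul, (h3 hx).2]
    omega

theorem small_orbit (h : Sym 2 Γ W β) {w : W} (hw : w ≠ 0) (h15 : (orbit Γ w).ncard ≤ 15) :
    Small 2187 Γ := by
  classical
  have := Fintype.ofFinite (orbit Γ w)
  rw [← Nat.card_coe_set_eq, Nat.card_eq_fintype_card] at h15
  refine Small.of_injective (Y := Equiv.Perm (orbit Γ w)) (fun M => ?_) (toPermHom Γ (orbit Γ w))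
    ((MonoidHom.ker_eq_bot_iff _).1 (bot_of_top h (top_of_orbit h hw fun g x hx => ?_)))
  · by_cases h3 : 3 ≤ Fintype.card (orbit Γ w)
    · have h1 := (H14.KP.k_sq_le M h3).trans
        (Nat.pow_le_pow_right (by norm_num) (show _ ≤ 14 by omega))
      exact (Nat.pow_le_pow_iff_left two_ne_zero).1 (h1.trans (by norm_num))
    · exact (H14.KP.k_le_two_pow M).trans
        ((Nat.pow_le_pow_right (by norm_num) (show _ ≤ 2 by omega)).trans (by norm_num))
  · exact congrArg Subtype.val (DFunLike.congr_fun (MonoidHom.mem_ker.1 hx) ⟨_, mem_orbit w g⟩)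

theorem symm (h : Sym 2 Γ W β) (u v : W) : β u v = β v u := by
  have h1 := h.alt (u + v)
  rw [map_add, map_add, AddMonoidHom.add_apply, AddMonoidHom.add_apply, h.alt, h.alt] at h1
  revert h1
  generalize β u v = a, β v u = b
  revert a b
  decide

theorem quad (h : Sym 2 Γ W β) {a : Γ} (ha : a ^ 3 = 1) (hf : ∀ w : W, a • w = w → w = 0) (w : W) :
    a • a • w = a • w + w := by
  have h3 : a • a • a • w = w := by
    rw [← mul_smul, ← mul_smul, ← pow_three', ha, one_smul]
  have := hf (a • a • w + (a • w + w)) (by rw [smul_add, smul_add, h3]; abel)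
  rw [← add_right_inj (a • w + w), add_comm, this, add_self h]

theorem case3 (h : Sym 2 Γ W β) (hW : Nat.card W = 64) {A : Subgroup Γ} (hn : A.Normal)
    (hc : ∀ a ∈ A, ∀ b ∈ A, a * b = b * a) (hf : ∀ a ∈ A, ∀ w : W, w ≠ 0 → a • w = w → a = 1)
    {y : Γ} (hy : y ∈ A) (h3 : orderOf y = 3) : Nat.card Γ ≤ 4310 := by
  have : Nontrivial W := Finite.one_lt_card_iff_nontrivial.1 (by omega)
  obtain ⟨w, hw⟩ := exists_ne (0 : W)
  have y1 : y ≠ 1 := by rintro rfl; simp at h3
  have y3 : y ^ 3 = 1 := by rw [← h3, pow_orderOf_eq_one]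
  have fp : ∀ a ∈ A, a ≠ 1 → ∀ w : W, a • w = w → w = 0 := fun a ha h1 w e =>
    by_contra fun hw => h1 (hf a ha w hw e)
  have qy := quad h y3 (fp y hy y1)
  have k1 := card_le_mul (centralizer {y}) (fun g => g * y * g⁻¹) {y, y⁻¹} (Set.toFinite _)
    (fun g => by
      have hb := hn.conj_mem y hy g
      have b3 : (g * y * g⁻¹) ^ 3 = 1 := by rw [conj_pow, y3, mul_one, mul_inv_cancel]
      have b1 : g * y * g⁻¹ ≠ 1 := fun e => y1 (conj_eq_one_iff.1 e)
      generalize g * y * g⁻¹ = b at hb b3 b1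
      have e3 : b • b • b • w = w := by rw [← mul_smul, ← mul_smul, ← pow_three', b3, one_smul]
      have qb := quad h b3 (fp b hb b1) w
      by_cases hv : y • w + b • b • w = 0
      · refine .inr (eq_inv_of_mul_eq_one_left (hf _ (mul_mem hb hy) w hw ?_))
        rw [← add_self h (b • b • w), add_left_inj] at hv
        rw [mul_smul, hv, e3]
      · refine .inl (inv_mul_eq_one.1 (hf _ (mul_mem (inv_mem hb) hy) _ hv ?_))
        rw [mul_smul, inv_smul_eq_iff, smul_add b, e3, smul_add, qy, qb, smul_add, ← mul_smul y b,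
          ← mul_smul b y, hc y hy b hb]
        rw [show y • w + w + ((b * y) • w + y • w) = (b * y) • w + w + (y • w + y • w) by abel,
          add_self h, add_zero])
    (fun a b e => mem_centralizer_singleton_iff.2 (by
      rw [show a⁻¹ * b * y = a⁻¹ * (b * y * b⁻¹) * b by group, ← e]; group))
  have k2 : ({y, y⁻¹} : Set Γ).ncard ≤ 2 := Set.ncard_insert_le _ _ |>.trans (by simp)
  let Q : W → ZMod 2 := fun v => β v (y • v)
  have Qadd : ∀ u v, Q (u + v) = Q u + Q v + β u v := fun u v => by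
    have e1 : β v (y • u) = β u (y • v) + β u v := by
      rw [← map_add, ← qy, symm h u, ← h.inv y v, ← h.inv y (y • v), ← mul_smul y y (y • u),
        ← mul_smul _ y u, ← pow_three', y3, one_smul]
    simp only [Q, smul_add, map_add, AddMonoidHom.add_apply, e1]
    generalize β u (y • u) = a, β u (y • v) = b, β u v = c, β v (y • v) = d
    revert a b c d
    decide
  have Qinv : ∀ g ∈ centralizer {y}, ∀ v, Q (g • v) = Q v := fun g hg v => by
    simp only [Q]
    rw [← mul_smul, ← mem_centralizer_singleton_iff.1 hg, mul_smul, h.inv]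
  obtain ⟨w1, hw1⟩ : ∃ v, Q v ≠ 0 := by
    by_contra! hq
    refine hw (h.nd w fun v => ?_)
    have := Qadd w v
    rw [hq, hq, hq] at this
    simpa using this.symm
  obtain ⟨w0, hw0, q0⟩ : ∃ v, v ≠ 0 ∧ Q v = 0 := by
    by_contra! hq
    have i1 := (β w).ker.card_mul_index
    have i2 : (β w).ker.index ≤ 2 := by
      rw [AddSubgroup.index_ker]
      exact (AddSubgroup.card_le_card_addGroup _).trans (Nat.card_zmod 2).le
    have i3 : ((β w).ker : Set W) ⊆ {0, w} := fun v hv => by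
      by_contra hn
      simp only [Set.mem_insert_iff, Set.mem_singleton_iff, not_or] at hn
      have e := Qadd w v
      have a1 := hq w hw
      have a2 := hq v hn.1
      have a3 := hq (w + v) fun e => hn.2 (by
        rw [← add_self h w, add_right_inj] at e; exact e)
      rw [show β w v = 0 from hv] at e
      rw [e] at a3
      revert a1 a2 a3
      generalize Q w = a, Q v = b
      revert a b
      decide
    have i4 := (Set.ncard_le_ncard i3).trans (Set.ncard_insert_le _ _)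
    rw [Set.ncard_singleton, ← Nat.card_coe_set_eq] at i4
    have i5 : Nat.card (β w).ker ≤ 2 := i4
    nlinarith
  have s := Set.ncard_add_ncard_compl {v | Q v = 0}
  have k3 : Nat.card (centralizer ({y} : Set Γ)) ≤ 32 * 64 := by
    by_cases hs : {v | Q v = 0}.ncard ≤ 32
    · exact (card_le_stab _ w0 {v | Q v = 0} fun g hg => (Qinv g hg w0).trans q0).trans
        (Nat.mul_le_mul hs (b3 h hW y3 (fp y hy y1) inf_le_left (one_lt_fx _ hw0)))
    · exact (card_le_stab _ w1 {v | Q v = 0}ᶜ fun g hg e => hw1 ((Qinv g hg w1).symm.trans e)).trans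
        (Nat.mul_le_mul (by omega) (b3 h hW y3 (fp y hy y1) inf_le_left (one_lt_fx _ fun e =>
          hw1 (by simp [e, Q]))))
  nlinarith

theorem semireg (h : Sym 2 Γ W β) (hW : Nat.card W = 64) {A : Subgroup Γ} (hn : A.Normal)
    (h0 : A ≠ ⊥) (hc : ∀ a ∈ A, ∀ b ∈ A, a * b = b * a)
    (hf : ∀ a ∈ A, ∀ w : W, w ≠ 0 → a • w = w → a = 1) : Nat.card Γ ≤ 4310 := by
  by_cases h3 : 3 ∣ Nat.card A
  · have := Fact.mk Nat.prime_three
    obtain ⟨y, hy⟩ := exists_prime_orderOf_dvd_card' 3 h3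
    exact case3 h hW hn hc hf y.2 ((orderOf_coe y).trans hy)
  let S : SubMulAction A W := ⟨{w | w ≠ 0}, fun a w hw e => hw ((smul_eq_zero_iff_eq a).1 e)⟩
  have e1 := Nat.card_congr (selfEquivOrbitsQuotientProd (G := A) (X := S) fun b =>
    eq_bot_iff.2 fun a ha => Subtype.ext (hf a a.2 b.1 b.2 (congrArg Subtype.val ha)))
  have e2 : Nat.card S = 63 := by
    have := Set.ncard_add_ncard_compl ({0} : Set W)
    rw [Set.ncard_singleton, hW, ← Nat.card_coe_set_eq] at this
    change Nat.card ↥({0}ᶜ : Set W) = 63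
    omega
  have e3 : Nat.card A ∣ 3 ^ 2 * 7 := ⟨_, by rw [mul_comm _ (Nat.card _), ← Nat.card_prod, ← e1, e2]; rfl⟩
  have e4 : Nat.card A = 7 := by
    have := (Nat.Coprime.pow_right 2 ((Nat.prime_three.coprime_iff_not_dvd.2 h3).symm)).dvd_of_dvd_mul_left e3
    exact ((Nat.dvd_prime (by norm_num)).1 this).resolve_left fun e => h0 (card_eq_one.1 e)
  obtain ⟨y, y1⟩ := ne_bot_iff_exists_ne_one.1 h0
  have y7 : (y : Γ) ^ 7 = 1 := by rw [← coe_pow, ← e4, pow_card_eq_one', coe_one]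
  have : Nontrivial W := Finite.one_lt_card_iff_nontrivial.1 (by omega)
  obtain ⟨w, hw⟩ := exists_ne (0 : W)
  have k1 := card_le_mul (centralizer {(y : Γ)}) (fun g => g * y * g⁻¹) A (Set.toFinite _)
    (fun g => hn.conj_mem y y.2 g) (fun a b e => mem_centralizer_singleton_iff.2 (by
      rw [show a⁻¹ * b * y = a⁻¹ * (b * y * b⁻¹) * b by group, ← e]; group))
  have k2 := card_le_stab (centralizer {(y : Γ)}) w Set.univ fun _ _ => trivial
  have k3 := b7 h hW y7 (fun w e => by_contra fun hw => y1 (Subtype.ext (hf y y.2 w hw e)))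
    (D := centralizer {(y : Γ)} ⊓ stabilizer Γ w) inf_le_left (one_lt_fx _ hw)
  rw [Set.ncard_univ, hW] at k2
  rw [← Nat.card_coe_set_eq, show Nat.card ↥(A : Set Γ) = 7 from e4] at k1
  omega

theorem conj_mem_stab {A : Subgroup Γ} (hn : A.Normal) (g : Γ) (w : W) {a : Γ}
    (ha : a ∈ A ⊓ stabilizer Γ w) : g * a * g⁻¹ ∈ A ⊓ stabilizer Γ (g • w) :=
  ⟨hn.conj_mem a ha.1 g, mem_stabilizer_iff.2 (by
    rw [mul_smul, mul_smul, inv_smul_smul, mem_stabilizer_iff.1 ha.2])⟩

theorem card_stab_le {A : Subgroup Γ} (hn : A.Normal) (g : Γ) (w : W) :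
    Nat.card ↥(A ⊓ stabilizer Γ w) ≤ Nat.card ↥(A ⊓ stabilizer Γ (g • w)) :=
  Nat.card_le_card_of_injective (fun a => ⟨_, conj_mem_stab hn g w a.2⟩) fun a b e =>
    Subtype.ext (by simpa using e)

theorem card_fx_le {A : Subgroup Γ} (hn : A.Normal) (g : Γ) (w : W) :
    Nat.card (Fx W (A ⊓ stabilizer Γ (g • w))) ≤ Nat.card (Fx W (A ⊓ stabilizer Γ w)) :=
  Nat.card_le_card_of_injective (fun x => ⟨g⁻¹ • x.1, fun a ha => by
    have := x.2 _ (conj_mem_stab hn g w ha)
    rw [mul_smul, mul_smul] at this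
    exact eq_inv_smul_iff.2 this⟩) fun a b e =>
    Subtype.ext (MulAction.injective g⁻¹ (Subtype.mk.inj e))

theorem num {t n : ℕ} (ht : 2 ≤ t) (hn : 1 < n) (h : n ^ t ≤ 64) : (n - 1) * t ≤ 15 := by
  have h1 : 2 ^ t ≤ 2 ^ 6 := (Nat.pow_le_pow_left hn t).trans h
  have h2 := (Nat.pow_le_pow_iff_right (by norm_num)).1 h1
  have h3 : n ^ 2 ≤ 8 ^ 2 := (Nat.pow_le_pow_right (by omega) ht).trans h
  have h4 := (Nat.pow_le_pow_iff_left two_ne_zero).1 h3
  interval_cases t <;> interval_cases n <;> simp_all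

theorem imprim (h : Sym 2 Γ W β) (hW : Nat.card W = 64) {A : Subgroup Γ} (hn : A.Normal)
    (hc : ∀ a ∈ A, ∀ b ∈ A, a * b = b * a) {w : W} (hw : w ≠ 0)
    (hm : ∀ v : W, v ≠ 0 → Nat.card ↥(A ⊓ stabilizer Γ v) ≤ Nat.card ↥(A ⊓ stabilizer Γ w))
    (h0 : A ⊓ stabilizer Γ w ≠ ⊥) : (orbit Γ w).ncard ≤ 15 := by
  classical
  have := Fintype.ofFinite W
  let O := (orbit Γ w).toFinset
  let T := O.image fun v => A ⊓ stabilizer Γ v
  have mT : ∀ g : Γ, A ⊓ stabilizer Γ (g • w) ∈ T := fun g =>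
    Finset.mem_image_of_mem _ (Set.mem_toFinset.2 (mem_orbit w g))
  have eT : ∀ L ∈ T, ∃ g : Γ, A ⊓ stabilizer Γ (g • w) = L := fun L hL => by
    obtain ⟨_, hv, rfl⟩ := Finset.mem_image.1 hL
    obtain ⟨g, rfl⟩ := Set.mem_toFinset.1 hv
    exact ⟨g, rfl⟩
  have mx : ∀ L ∈ T, ∀ v ∈ Fx W L, v ≠ 0 → A ⊓ stabilizer Γ v = L := fun L hL v hv v0 => by
    obtain ⟨g, rfl⟩ := eT L hL
    exact (eq_of_le_of_card_ge (H := A ⊓ stabilizer Γ (g • w)) (K := A ⊓ stabilizer Γ v)
      (fun a ha => ⟨ha.1, hv a ha⟩) ((hm v v0).trans (card_stab_le hn g w))).symm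
  have cT : ∀ L ∈ T, Nat.card (Fx W L) = Nat.card (Fx W (A ⊓ stabilizer Γ w)) := fun L hL => by
    obtain ⟨g, rfl⟩ := eT L hL
    refine le_antisymm (card_fx_le hn g w) ?_
    simpa using card_fx_le hn g⁻¹ (g • w)
  have orth : ∀ L ∈ T, ∀ L' ∈ T, L ≠ L' → ∀ u ∈ Fx W L, ∀ v ∈ Fx W L', β u v = 0 := by
    intro L hL L' hL' hne u hu v hv
    obtain ⟨g, eg⟩ := eT L hL
    obtain ⟨g', eg'⟩ := eT L' hL'
    obtain ⟨k, hk, hk'⟩ : ∃ k ∈ L, k ∉ L' := by
      by_contra! hle
      refine hne (eq_of_le_of_card_ge hle ?_)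
      rw [← eg, ← eg']
      exact (hm _ fun e => hw ((smul_eq_zero_iff_eq g').1 e)).trans (card_stab_le hn g w)
    have kA : k ∈ A := (eg ▸ inf_le_left : L ≤ A) hk
    have inj : Function.Injective fun x : Fx W L' => (⟨k • x.1 - x.1, sub_mem (fun a ha => by
        rw [← mul_smul, hc a ((eg' ▸ inf_le_left : L' ≤ A) ha) k kA, mul_smul, x.2 a ha]) x.2⟩ :
        Fx W L') := fun x x' e => by
      by_contra hx
      refine hk' (mx L' hL' (x - x').1 (x - x').2 (fun e => hx (sub_eq_zero.1 (Subtype.ext e))) ▸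
        ⟨kA, mem_stabilizer_iff.2 ?_⟩)
      have e' : k • x.1 - x.1 = k • x'.1 - x'.1 := Subtype.mk.inj e
      rw [AddSubgroupClass.coe_sub, smul_sub]
      exact sub_eq_sub_iff_sub_eq_sub.1 e'
    obtain ⟨x, hx⟩ := Finite.surjective_of_injective inj ⟨v, hv⟩
    rw [← (Subtype.mk.inj hx : k • x.1 - x.1 = v), map_sub, ← h.inv k u x.1, hu k hk, sub_self]
  have nd : ∀ L ∈ T, ∀ u ∈ Fx W L, (∀ v ∈ Fx W L, β u v = 0) → u = 0 := fun L hL u hu h1 =>
    h.nd u fun x => (top_of_orbit h hw (U := (β u).ker) fun g => by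
      by_cases e : L = A ⊓ stabilizer Γ (g • w)
      · exact h1 _ fun a ha => (e.le ha).2
      · exact orth L hL _ (mT g) e u hu _ fun a ha => ha.2).ge (AddSubgroup.mem_top x)
  have big := Nat.card_le_card_of_injective (fun u : ∀ L : T, Fx W L.1 => ∑ L, (u L).1)
    fun u u' e => by
      funext L
      refine Subtype.ext (sub_eq_zero.1 (nd L L.2 _ (sub_mem (u L).2 (u' L).2) fun v hv => ?_))
      have e1 : ∑ L, ((u L).1 - (u' L).1) = 0 := by
        rw [Finset.sum_sub_distrib]; exact sub_eq_zero.2 e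
      have e2 := congrArg (fun x => β x v) e1
      simp only [map_sum, AddMonoidHom.finsetSum_apply, map_zero, AddMonoidHom.zero_apply] at e2
      rwa [Finset.sum_eq_single L (fun L' _ hne => orth _ L'.2 _ L.2 (fun e => hne (Subtype.ext e))
        _ (sub_mem (u L').2 (u' L').2) v hv) (by simp)] at e2
  rw [Nat.card_pi, Finset.prod_congr rfl fun L _ => cT L.1 L.2, Finset.prod_const,
    Finset.card_univ, Fintype.card_coe, hW] at big
  have two : 2 ≤ T.card := by
    by_contra hlt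
    refine h0 (bot_of_top h (top_of_orbit h hw fun g a ha => ?_))
    have := Finset.card_le_one.1 (show T.card ≤ 1 by omega) _ (mT 1) _ (mT g)
    rw [one_smul] at this
    exact (this.le ha).2
  have fib := Finset.card_le_mul_card_image (f := fun v => A ⊓ stabilizer Γ v) O
    (Nat.card (Fx W (A ⊓ stabilizer Γ w)) - 1) fun L hL => by
      rw [← cT L hL, Nat.card_eq_fintype_card, Fintype.card_subtype,
        ← Finset.card_erase_of_mem (a := 0) (by simp)]
      refine Finset.card_le_card fun v hv => ?_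
      obtain ⟨hv, e⟩ := Finset.mem_filter.1 hv
      obtain ⟨g, rfl⟩ := Set.mem_toFinset.1 hv
      exact Finset.mem_erase.2 ⟨fun e => hw ((smul_eq_zero_iff_eq g).1 e),
        Finset.mem_filter.2 ⟨Finset.mem_univ _, fun a ha => (e.ge ha).2⟩⟩
  rw [Set.ncard_eq_toFinset_card']
  exact fib.trans (num two (one_lt_fx A hw) big)

end Sym64Aux

open Sym64Aux MulAction in
/-- notes/KR.md, section Sym64 -/
theorem sym64 {Γ W : Type*} [Group Γ] [Finite Γ] [AddCommGroup W] [Finite W]
    [DistribMulAction Γ W] {β : W →+ W →+ ZMod 2} (h : Sym 2 Γ W β)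
    (hW : Nat.card W = 64) : Small 2187 Γ := by
  rcases subsingleton_or_nontrivial Γ with h1 | h1
  · exact Small.of_card ((Finite.card_le_one_iff_subsingleton.2 h1).trans (by norm_num))
  obtain ⟨A, hn, h0, hc⟩ := exists_ab Γ h.solv
  have : Nontrivial W := Finite.one_lt_card_iff_nontrivial.1 (by omega)
  obtain ⟨w, hw, hm⟩ := Set.exists_max_image {w : W | w ≠ 0}
    (fun v => Nat.card ↥(A ⊓ stabilizer Γ v)) (Set.toFinite _) (exists_ne 0)
  by_cases hb : A ⊓ stabilizer Γ w = ⊥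
  · refine finish h hW (semireg h hW hn h0 hc fun a ha v hv e => ?_)
    have := hm v hv
    rw [hb, card_bot] at this
    exact mem_bot.1 ((eq_bot_of_card_le _ this).le ⟨ha, e⟩)
  · exact small_orbit h hw (imprim h hW hn hc hw hm hb)

end Cfsg.Agent.KR
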