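import Cfsg.Agent.KR.Defs

set_option autoImplicit false

open Subgroup
open scoped commutatorElement

namespace Cfsg.Agent.KR

universe u

theorem sym81_cent {Γ W : Type*} [Group Γ] [Finite Γ] [AddCommGroup W] [Finite W] [Module (ZMod 3) W]
    [DistribMulAction Γ W] {β : W →+ W →+ ZMod 3} (h : Sym 3 Γ W β) (hW : Nat.card W = 81) {y : Γ} {w : W}
    (hy : LinearIndependent (ZMod 3) ![w, y • w]) : Nat.card (centralizer ({y} : Set Γ)) ≤ 6480 := by
  have := Fact.mk Nat.prime_three
  have h4 : Module.finrank (ZMod 3) W = 4 := Nat.pow_right_injective (a := 3) (by decide) (by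
    have := Module.natCard_eq_pow_finrank (K := ZMod 3) (V := W)
    rw [Nat.card_zmod, hW] at this
    exact this.symm)
  obtain ⟨u, hu⟩ := exists_linearIndependent_cons_of_lt_finrank hy (by omega)
  obtain ⟨v, hv⟩ := exists_linearIndependent_cons_of_lt_finrank hu (by omega)
  have hs := hv.span_eq_top_of_card_eq_finrank (by simp [h4])
  let φ : W →ₗ[ZMod 3] ZMod 3 × ZMod 3 := ((β w).prod (β (y • w))).toZModLinearMap 3
  have h1 : LinearMap.range φ = ⊤ := by_contra fun e => by
    obtain ⟨f, f0, hf⟩ := Submodule.exists_le_ker_of_lt_top _ (lt_top_iff_ne_top.2 e)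
    have k : ∀ a b : ZMod 3, f (a, b) = a * f (1, 0) + b * f (0, 1) := fun a b => by
      rw [← smul_eq_mul, ← smul_eq_mul, ← map_smul, ← map_smul, ← map_add]; simp
    obtain ⟨a1, a2⟩ := LinearIndependent.pair_iff.1 hy (f (1, 0)) (f (0, 1)) (h.nd _ fun x => by
      have := (k _ _).symm.trans (hf ⟨x, rfl⟩)
      rw [map_add, AddMonoidHom.add_apply]
      have e1 : ∀ c : ZMod 3, ∀ z, β (c • z) x = c * β z x := fun c z => ZMod.map_smul (β.flip x) c z
      rw [e1, e1, mul_comm, mul_comm (f (0, 1))]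
      exact this)
    exact f0 (LinearMap.ext fun ⟨a, b⟩ => by simp [k a b, a1, a2])
  have h2 : Nat.card (LinearMap.ker φ) = 9 := by
    have := φ.finrank_range_add_finrank_ker
    rw [h1, h4, finrank_top, Module.finrank_prod, Module.finrank_self] at this
    rw [Module.natCard_eq_pow_finrank (K := ZMod 3), Nat.card_zmod, show Module.finrank _ _ = 2 by omega]; rfl
  have h3 : ∀ g : MulAction.stabilizer (centralizer ({y} : Set Γ)) w, g.1.1 • y • w = y • w := fun g => by
    rw [← mul_smul, mem_centralizer_singleton_iff.1 g.1.2, mul_smul]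
    exact congrArg _ g.2
  have h5 : ∀ (g : MulAction.stabilizer (centralizer ({y} : Set Γ)) w) x, g.1.1 • x - x ∈ LinearMap.ker φ := fun g x =>
    Prod.ext (show β w _ = 0 by rw [map_sub, ← h.inv g.1.1 w x, show g.1.1 • w = w from g.2, sub_self])
      (show β (y • w) _ = 0 by rw [map_sub, ← h.inv g.1.1 (y • w) x, h3, sub_self])
  have h6 := Nat.card_le_card_of_injective (fun g : MulAction.stabilizer (centralizer ({y} : Set Γ)) w =>
    ((⟨_, h5 g u⟩, ⟨_, h5 g v⟩) : LinearMap.ker φ × LinearMap.ker φ)) fun g g' e => by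
      refine Subtype.ext (Subtype.ext (inv_mul_eq_one.1 (h.faith _ fun x => ?_)))
      rw [mul_smul, inv_smul_eq_iff, eq_comm]
      refine LinearMap.eqOn_span' (f := (DistribSMul.toAddMonoidHom W g.1.1).toZModLinearMap 3)
        (g := (DistribSMul.toAddMonoidHom W g'.1.1).toZModLinearMap 3) ?_ (hs.ge (Submodule.mem_top (x := x)))
      rintro _ ⟨i, rfl⟩
      fin_cases i
      exacts [sub_left_inj.1 (congrArg (·.2.1) e), sub_left_inj.1 (congrArg (·.1.1) e),
        (show g.1.1 • w = w from g.2).trans (show g'.1.1 • w = w from g'.2).symm, (h3 g).trans (h3 g').symm]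
  have h7 := (MulAction.stabilizer (centralizer ({y} : Set Γ)) w).card_mul_index
  have h8 : (MulAction.orbit (centralizer ({y} : Set Γ)) w).ncard < Nat.card W := by
    rw [← Set.ncard_univ]
    refine Set.ncard_lt_ncard (Set.ssubset_univ_iff.2 fun e => ?_)
    obtain ⟨g, hg⟩ := e.ge (Set.mem_univ 0)
    exact hy.ne_zero 0 ((smul_eq_zero_iff_eq g).1 hg)
  rw [Nat.card_prod, h2] at h6
  rw [MulAction.index_stabilizer] at h7
  rw [← h7]
  exact Nat.mul_le_mul h6 (show _ ≤ 80 by omega)

/-- notes/KR.md, section Sym81 -/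
theorem sym81 {Γ W : Type*} [Group Γ] [Finite Γ] [AddCommGroup W] [Finite W]
    [DistribMulAction Γ W] {β : W →+ W →+ ZMod 3} (h : Sym 3 Γ W β)
    (hW : Nat.card W = 81) : Small 6561 Γ := by
  have := Fact.mk Nat.prime_three
  let _ : Module (ZMod 3) W := AddCommGroup.zmodModule h.exp
  intro H
  have := k_add_one_le {g : H | ∃ c : ZMod 3, ∀ w : W, g.1 • w = c • w} ⟨1, by simp⟩ (a := 3) (b := 6480)
    ((Nat.card_le_card_of_injective (fun g => g.2.choose) fun g g' e => Subtype.ext (Subtype.ext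
      (inv_mul_eq_one.1 (h.faith _ fun w => by
        rw [mul_smul, inv_smul_eq_iff, g.2.choose_spec, g'.2.choose_spec]
        exact congrArg (· • w) e.symm)))).trans (Nat.card_zmod 3).le) (fun y hy => by
      obtain ⟨w, hw⟩ := not_forall_not.1 (mt (LinearMap.exists_eq_smul_id_of_forall_notLinearIndependent
        (f := (DistribSMul.toAddMonoidHom W y.1).toZModLinearMap 3)) fun ⟨c, hc⟩ => hy ⟨c, LinearMap.congr_fun hc⟩)
      rw [H83.card_cent_subgroup]
      exact (card_le_of_le inf_le_right).trans (sym81_cent h hW hw)) (by decide)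
  omega

end Cfsg.Agent.KR
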