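import Cfsg.Agent.KR.Defs
import Cfsg.Agent.S4374

set_option autoImplicit false

open Subgroup
open scoped commutatorElement

namespace Cfsg.Agent.KR

universe u

theorem symBig_num {e : ℕ} (he : 16 ≤ e) : e ^ 6 ≤ 2 * 3 ^ (e - 1) := by
  induction e, he using Nat.le_induction with
  | base => norm_num
  | succ n hn ih =>
    obtain ⟨m, rfl⟩ : ∃ m, n = m + 1 := ⟨n - 1, by omega⟩
    rw [Nat.add_sub_cancel] at ih ⊢
    have h1 : (16 * (m + 1 + 1)) ^ 6 ≤ (17 * (m + 1)) ^ 6 := Nat.pow_le_pow_left (by omega) 6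
    rw [mul_pow, mul_pow] at h1
    rw [pow_succ 3 m]
    generalize (m + 1 + 1) ^ 6 = x, (m + 1) ^ 6 = y, 3 ^ m = z at *
    norm_num at h1
    omega

/-- notes/KR.md, section SymBig -/
theorem symBig {p e : ℕ} {Γ W : Type*} [Group Γ] [Finite Γ] [AddCommGroup W] [Finite W]
    [DistribMulAction Γ W] {β : W →+ W →+ ZMod p} (h : Sym p Γ W β)
    (hW : Nat.card W = e ^ 2) (he : 16 ≤ e) : Small (3 ^ (e - 1)) Γ := by
  classical
  have : FaithfulSMul Γ W := ⟨fun {a b} k => by
    have := h.faith (b⁻¹ * a) fun w => by rw [mul_smul, k, inv_smul_smul]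
    exact (inv_mul_eq_one.1 this).symm⟩
  obtain ⟨v1, v2, v3, hv⟩ := S4374.result (A := Γ) (V := W) h.solv fun U hU => by
    rcases h.irr U hU with rfl | rfl
    · exact ⟨⊤, fun _ _ _ => trivial, by simp, by simp⟩
    · exact ⟨⊥, fun a w hw => by rw [AddSubgroup.mem_bot.1 hw, smul_zero]; exact zero_mem _, by simp, by simp⟩
  have base : ∀ a b : Γ, a • v1 = b • v1 → a • v2 = b • v2 → a • v3 = b • v3 → a = b := fun a b h1 h2 h3 =>
    (inv_mul_eq_one.1 (hv (b⁻¹ * a) (by rw [mul_smul, h1, inv_smul_smul]) (by rw [mul_smul, h2, inv_smul_smul])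
      (by rw [mul_smul, h3, inv_smul_smul]))).symm
  have key : ∃ f : Γ × Bool → W × W × W, Function.Injective f := by
    by_cases h0 : v1 = 0
    · have : Nontrivial W := Finite.one_lt_card_iff_nontrivial.1 (by rw [hW]; nlinarith)
      obtain ⟨w, hw⟩ := exists_ne (0 : W)
      refine ⟨fun g => (if g.2 then w else 0, g.1 • v2, g.1 • v3), ?_⟩
      rintro ⟨a, s⟩ ⟨b, t⟩ e
      simp only [Prod.mk.injEq] at e ⊢
      refine ⟨base a b (by simp [h0]) e.2.1 e.2.2, ?_⟩
      have e1 := e.1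
      cases s <;> cases t <;> simp [hw, hw.symm] at e1 ⊢
    · have ex : ∀ x : W, ∃ y, x ≠ 0 → β x y ≠ 0 := fun x => by
        by_contra! k
        exact (k 0).1 (h.nd x fun y => (k y).2)
      choose τ hτ using ex
      have nz : ∀ a : Γ, a • v1 ≠ 0 := fun a k => h0 (by rw [← inv_smul_smul a v1, k, smul_zero])
      have cross : ∀ a b : Γ, a • v1 = b • v1 → a • v2 ≠ b • v2 + τ (b • v1) := fun a b h1 h2 => by
        have := h.inv a v1 v2
        rw [h1, h2, map_add, h.inv, add_eq_left] at this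
        exact hτ _ (nz b) this
      refine ⟨fun g => (g.1 • v1, g.1 • v2 + (if g.2 then τ (g.1 • v1) else 0), g.1 • v3), ?_⟩
      rintro ⟨a, s⟩ ⟨b, t⟩ e
      simp only [Prod.mk.injEq] at e ⊢
      obtain ⟨e1, e2, e3⟩ := e
      cases s <;> cases t <;> simp only [if_true, if_false, Bool.false_eq_true, add_zero] at e2
      · exact ⟨base a b e1 e2 e3, rfl⟩
      · exact absurd e2 (cross a b e1)
      · exact absurd e2.symm (cross b a e1.symm)
      · rw [e1, add_left_inj] at e2
        exact ⟨base a b e1 e2 e3, rfl⟩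
  obtain ⟨f, hf⟩ := key
  have h1 := Nat.card_le_card_of_injective f hf
  have h2 := symBig_num he
  simp only [Nat.card_prod, hW, Nat.card_eq_fintype_card, Fintype.card_bool] at h1
  refine Small.of_card ?_
  have : e ^ 2 * (e ^ 2 * e ^ 2) = e ^ 6 := by ring
  omega

end Cfsg.Agent.KR
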