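import Cfsg.Agent.KR.SymOne
import Cfsg.Agent.KR.Sym81
import Cfsg.Agent.KR.SymBig
import Cfsg.Agent.KR.Sym16
import Cfsg.Agent.KR.Sym64

set_option autoImplicit false

open Subgroup
open scoped commutatorElement

namespace Cfsg.Agent.KR

universe u

/-- notes/KR.md, section SymAll -/
theorem symAll {p e : ℕ} {Γ W : Type*} [Group Γ] [Finite Γ] [AddCommGroup W] [Finite W]
    [DistribMulAction Γ W] {β : W →+ W →+ ZMod p} (h : Sym p Γ W β)
    (hW : Nat.card W = e ^ 2) : Small (3 ^ (e - 1)) Γ := by
  have hp := h.prime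
  have := Fact.mk hp
  have hP : IsPGroup p (Multiplicative W) := fun x => ⟨1, by
    rw [pow_one]; exact h.exp x.toAdd⟩
  obtain ⟨m, hm⟩ := IsPGroup.iff_card.1 hP
  have hm' : e ^ 2 = p ^ m := by rw [← hW, ← hm]; rfl
  obtain ⟨n, -, rfl⟩ := (Nat.dvd_prime_pow hp).1 (hm' ▸ dvd_pow_self e two_ne_zero : e ∣ p ^ m)
  by_cases he : 16 ≤ p ^ n
  · exact symBig h hW he
  rcases n with _ | _ | n
  · have : Subsingleton W := Finite.card_le_one_iff_subsingleton.1 (by simp [hW])
    have : Subsingleton Γ := ⟨fun a b => by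
      rw [h.faith a fun w => Subsingleton.elim _ _, h.faith b fun w => Subsingleton.elim _ _]⟩
    exact Small.of_card (by simp [Finite.card_le_one_iff_subsingleton, this])
  · simpa using symOne h (by simpa using hW)
  · have h2 := hp.two_le
    have hp4 : p < 4 := by
      by_contra hc
      have : 4 ^ 2 ≤ p ^ (n + 1 + 1) :=
        (Nat.pow_le_pow_left (by omega) 2).trans (Nat.pow_le_pow_right (by omega) (by omega))
      omega
    have hn : n < 2 := by
      by_contra hc
      have : 2 ^ 4 ≤ p ^ (n + 1 + 1) :=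
        (Nat.pow_le_pow_left h2 4).trans (Nat.pow_le_pow_right (by omega) (by omega))
      omega
    interval_cases p <;> interval_cases n
    · exact sym16 h hW
    · exact sym64 h hW
    · exact sym81 h hW
    · norm_num at he

end Cfsg.Agent.KR
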