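import Cfsg.Agent.KR.Defs

set_option autoImplicit false

open Subgroup
open scoped commutatorElement

namespace Cfsg.Agent.KR

universe u

namespace SymOneAux

theorem arith {p : ℕ} (hp : 2 ≤ p) : p ^ 2 + p ≤ 3 ^ (p - 1) + 3 := by
  obtain ⟨n, rfl⟩ := Nat.exists_eq_add_of_le hp
  rw [show 2 + n - 1 = n + 1 by omega]
  induction n with
  | zero => norm_num
  | succ n ih =>
    have := ih (by omega)
    rw [pow_succ 3 (n + 1)]
    nlinarith

theorem core {p : ℕ} [Fact p.Prime] {H W : Type*} [Group H] [Finite H] [AddCommGroup W]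
    [Finite W] [Module (ZMod p) W] (T : H →* Module.End (ZMod p) W) (hT : Function.Injective T)
    (hW : Nat.card W = p ^ 2) : Nat.card (ConjClasses H) ≤ 3 ^ (p - 1) := by
  classical
  have hp : p.Prime := Fact.out
  have hp2 := hp.two_le
  have hfin : Module.Finite (ZMod p) W := Module.Finite.of_finite
  have hr : Module.finrank (ZMod p) W = 2 := by
    have h1 := Module.natCard_eq_pow_finrank (K := ZMod p) (V := W)
    rw [hW, Nat.card_zmod] at h1
    exact (Nat.pow_right_injective hp2 h1).symm
  have hnt : Nontrivial W := Module.nontrivial_of_finrank_pos (R := ZMod p) (by omega)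
  have hinj : ∀ (g : H) (w : W), T g w = 0 → w = 0 := fun g w hw => by
    have : T (g⁻¹ * g) w = 0 := by rw [map_mul, Module.End.mul_apply, hw, map_zero]
    simpa using this
  let Z : Set H := {g | ∃ a : ZMod p, T g = a • 1}
  have h1 : (1 : H) ∈ Z := ⟨1, by simp⟩
  have ha : Nat.card Z ≤ p - 1 := by
    let f : Z → {a : ZMod p // a ≠ 0} := fun z => ⟨z.2.choose, fun h0 => by
      obtain ⟨w, hw⟩ := exists_ne (0 : W)
      have := z.2.choose_spec
      rw [h0] at this
      exact hw (hinj z w (by rw [this]; simp))⟩
    have hf : Function.Injective f := fun y z hyz => by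
      have h2 : y.2.choose = z.2.choose := congrArg Subtype.val hyz
      refine Subtype.ext (hT ?_)
      rw [y.2.choose_spec, z.2.choose_spec, h2]
    refine (Nat.card_le_card_of_injective f hf).trans ?_
    rw [Nat.card_eq_fintype_card, Fintype.card_subtype_compl, ZMod.card]
    simp
  have hb : ∀ x ∉ Z, Nat.card (centralizer ({x} : Set H)) ≤ p ^ 2 - 1 := fun x hx => by
    obtain ⟨w, hw⟩ : ∃ w, LinearIndependent (ZMod p) ![w, T x w] := by
      by_contra hn
      push Not at hn
      exact hx (LinearMap.exists_eq_smul_id_of_forall_notLinearIndependent hn)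
    have hw0 : w ≠ 0 := by simpa using hw.ne_zero 0
    have hsp := hw.span_eq_top_of_card_eq_finrank (by simp [hr])
    let f : centralizer ({x} : Set H) → {v : W // v ≠ 0} := fun g =>
      ⟨T g w, fun h0 => hw0 (hinj g w h0)⟩
    have hc : ∀ g : centralizer ({x} : Set H), T g (T x w) = T x (T g w) := fun g => by
      rw [← Module.End.mul_apply, ← map_mul, mem_centralizer_singleton_iff.1 g.2, map_mul,
        Module.End.mul_apply]
    have hf : Function.Injective f := fun y z hyz => by
      have h2 : T y w = T z w := congrArg Subtype.val hyz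
      refine Subtype.ext (hT (LinearMap.ext_on_range hsp fun i => ?_))
      fin_cases i
      · exact h2
      · show T y (T x w) = T z (T x w)
        rw [hc, hc, h2]
    refine (Nat.card_le_card_of_injective f hf).trans ?_
    have := Fintype.ofFinite W
    rw [Nat.card_eq_fintype_card, Fintype.card_subtype_compl, ← Nat.card_eq_fintype_card, hW]
    simp
  have h4 : 4 ≤ p ^ 2 := by nlinarith
  have hk := k_add_one_le Z h1 ha hb (by omega)
  have := arith hp2
  omega

theorem core2 {p : ℕ} [Fact p.Prime] {Γ W : Type*} [Group Γ] [Finite Γ] [AddCommGroup W]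
    [Finite W] [DistribMulAction Γ W] [Module (ZMod p) W]
    (h : ∀ g : Γ, (∀ w : W, g • w = w) → g = 1)
    (hW : Nat.card W = p ^ 2) : Small (3 ^ (p - 1)) Γ := by
  let T : Γ →* Module.End (ZMod p) W :=
    { toFun := fun g => (DistribSMul.toAddMonoidHom W g).toZModLinearMap p
      map_one' := LinearMap.ext fun w => one_smul Γ w
      map_mul' := fun a b => LinearMap.ext fun w => mul_smul a b w }
  have hT : Function.Injective T := (injective_iff_map_eq_one T).2 fun g hg =>
    h g fun w => LinearMap.congr_fun hg w
  intro H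
  exact core (T.comp H.subtype) (hT.comp H.subtype_injective) hW

end SymOneAux

/-- notes/KR.md, section SymOne -/
theorem symOne {p : ℕ} {Γ W : Type*} [Group Γ] [Finite Γ] [AddCommGroup W] [Finite W]
    [DistribMulAction Γ W] {β : W →+ W →+ ZMod p} (h : Sym p Γ W β)
    (hW : Nat.card W = p ^ 2) : Small (3 ^ (p - 1)) Γ := by
  have : Fact p.Prime := ⟨h.prime⟩
  exact @SymOneAux.core2 p _ Γ W _ _ _ _ _ (AddCommGroup.zmodModule h.exp) h.faith hW

end Cfsg.Agent.KR
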