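import Cfsg.Agent.KR.NilK
import Cfsg.Agent.KR.Main
import Cfsg.Agent.H11.KvLift

set_option autoImplicit false

open Subgroup
open scoped commutatorElement

namespace Cfsg.Agent.KR

universe u

theorem vh_add {H A : Type*} [Group H] [Finite H] [AddCommGroup A] [Finite A] (p : ℕ) [Fact p.Prime]
    [Module (ZMod p) A] (hH : ¬ p ∣ Nat.card H) (φ : H → A →+ A) (h1 : ∀ a, φ 1 a = a)
    (h2 : ∀ x y a, φ (x * y) a = φ x (φ y a)) (h3 : ∀ x, (∀ a, φ x a = a) → x = 1)
    (hX : Group.IsSolvable H) {n : ℕ} (hV : Nat.card A = p ^ n) :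
    Small (3 ^ (n - 1)) (H ⧸ fittingSubgroup H) := by
  let ρ : H →* Module.End (ZMod p) A :=
    { toFun := fun x => AddMonoidHom.toZModLinearMap p (φ x)
      map_one' := LinearMap.ext h1
      map_mul' := fun x y => LinearMap.ext (h2 x y) }
  have : Module.Finite (ZMod p) A := Module.Finite.of_finite
  have hr : Module.finrank (ZMod p) A = n := by
    have := Module.natCard_eq_pow_finrank (K := ZMod p) (V := A)
    rw [Nat.card_zmod, hV] at this
    exact (Nat.pow_right_injective (Fact.out : p.Prime).two_le this).symm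
  obtain ⟨χ, ⟨m, σ, rfl⟩, k1, k2⟩ := H11.Kv.exists_lift (p := p) hH ρ
    ((injective_iff_map_eq_one _).2 fun y hy => h3 y (LinearMap.congr_fun hy))
  refine core n H (Fin m → ℂ) σ hX ((injective_iff_map_eq_one _).2 fun g hg => k2 g ?_) ?_
  · simp [Representation.character, hg]
  · rw [hr, Representation.char_one] at k1
    exact_mod_cast k1

theorem vh_small {X : Type*} [Group X] [Finite X] (p : ℕ) [Fact p.Prime] (V : Subgroup X) [V.Normal]
    (hVexp : ∀ v ∈ V, v ^ p = 1) (hidx : ¬ p ∣ V.index) (hself : centralizer (V : Set X) = V)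
    (hX : Group.IsSolvable X) {n : ℕ} (hV : Nat.card V = p ^ n) :
    Small (3 ^ (n - 1)) ((X ⧸ V) ⧸ fittingSubgroup (X ⧸ V)) := by
  let _ : CommGroup V := { (inferInstance : Group V) with
    mul_comm := fun a b => Subtype.ext (mem_centralizer_iff.1 (hself.ge b.2) a a.2) }
  let ψ : X ⧸ V →* MulAut V := QuotientGroup.lift V MulAut.conjNormal fun x hx =>
    MulEquiv.ext fun v => Subtype.ext
      (mul_inv_eq_iff_eq_mul.2 (mem_centralizer_iff.1 (hself.ge hx) v v.2).symm)
  refine @vh_add _ (Additive V) _ _ _ _ p _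
    (AddCommGroup.zmodModule fun x => Subtype.ext (hVexp _ (Additive.toMul x).2)) hidx
    (fun x => MonoidHom.toAdditive (ψ x).toMonoidHom) (fun a => by rw [map_one]; rfl)
    (fun x y a => by rw [map_mul]; rfl) (fun x h => ?_) inferInstance _ hV
  obtain ⟨g, rfl⟩ := QuotientGroup.mk_surjective x
  exact (QuotientGroup.eq_one_iff g).2 (hself.le (mem_centralizer_iff.2 fun v hv =>
    (mul_inv_eq_iff_eq_mul.1 (congrArg Subtype.val (h (Additive.ofMul ⟨v, hv⟩)))).symm))

/-- notes/KR.md, section VH -/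
theorem vh {X : Type*} [Group X] [Finite X] (p : ℕ) [Fact p.Prime] (V : Subgroup X) [V.Normal]
    (hVexp : ∀ v ∈ V, v ^ p = 1) (hidx : ¬ p ∣ V.index) (hself : centralizer (V : Set X) = V)
    (hX : Group.IsSolvable X) {n : ℕ} (hV : Nat.card V = p ^ n) :
    Nat.card (ConjClasses X) ≤ 3 ^ (n - 1) * p ^ n := by
  let N := (fittingSubgroup (X ⧸ V)).comap (QuotientGroup.mk' V)
  have le : V ≤ N := fun x hx => by
    rw [mem_comap, QuotientGroup.mk'_apply, (QuotientGroup.eq_one_iff x).2 hx]
    exact one_mem _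
  have h1 : Small (3 ^ (n - 1)) (X ⧸ N) := Small.quot_of_hom N
    ((QuotientGroup.mk' _).comp (QuotientGroup.mk' V)) (fun x hx => by simpa [N, mem_comap] using hx)
    (vh_small p V hVexp hidx hself hX hV)
  have hn := H44.fitting_isNilpotent (G := X ⧸ V)
  let f : N →* fittingSubgroup (X ⧸ V) := (QuotientGroup.mk' V).subgroupComap _
  have h2 := nilK p (V.subgroupOf N) (fun v hv => Subtype.ext (hVexp v hv))
    (fun h => hidx (h.trans (relIndex_dvd_index_of_le le))) (by
      ext x
      rw [mem_centralizer_iff]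
      exact ⟨fun h => hself.le (mem_centralizer_iff.2 fun v hv => congrArg Subtype.val (h ⟨v, le hv⟩ hv)),
        fun h v hv => Subtype.ext (mem_centralizer_iff.1 (hself.ge h) v hv)⟩)
    (Group.nilpotent_of_mulEquiv ((QuotientGroup.quotientMulEquivOfEq (show V.subgroupOf N = f.ker by
      ext x
      rw [MonoidHom.mem_ker, mem_subgroupOf, Subtype.ext_iff]
      exact (QuotientGroup.eq_one_iff (x : X)).symm)).trans (QuotientGroup.quotientKerEquivRange f)).symm)
  rw [Nat.card_congr (subgroupOfEquivOfLe le).toEquiv, hV] at h2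
  refine (S4201.result N).trans ?_
  rw [mul_comm]
  exact Nat.mul_le_mul h1.k_le h2

end Cfsg.Agent.KR
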